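import Cfsg.Agent.TICyclic.Fwd.Two
import Cfsg.Agent.Transfer.Basic
import Cfsg.Agent.PGroups.CyclicMaximal
import Cfsg.Agent.S0215

/-!
A simple group in which all elements of order four of a Sylow 2-subgroup have the same square has dihedral Sylow
2-subgroups.
-/

set_option autoImplicit false
set_option linter.unusedSectionVars false
set_option linter.style.haveILetI false

namespace Cfsg.Lib.TICyclic

open Subgroup

universe u

variable {G : Type u} [Group G] [Finite G]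

/-- The elements of order four have one square `x * x`, and the conjugates of it invert them. -/
structure OneSquare (S : Sylow 2 G) (A : Subgroup G) (x : G) : Prop where
  nt : NormTwo G
  split : Split (S : Subgroup G) A
  mem : x ∈ S
  quad : Quad x
  one : ∀ d ∈ S, Quad d → d * d = x * x
  inverts : ∀ g : G, g * (x * x) * g⁻¹ ∈ S → g * (x * x) * g⁻¹ ≠ x * x →
    ∀ d ∈ S, Quad d → g * (x * x) * g⁻¹ * d * (g * (x * x) * g⁻¹)⁻¹ = d⁻¹

namespace OneSquare

variable {S : Sylow 2 G} {A : Subgroup G} {x : G} (O : OneSquare S A x)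
include O

theorem mem_A : x ∈ A := O.split.quad_mem O.mem O.quad

theorem sq_invol : x * x ∈ O.split.invol := ⟨mul_mem O.mem_A O.mem_A, O.quad.2⟩

theorem cen {s : G} (hs : s ∈ S) : Commute s (x * x) := O.split.invol_cen O.sq_invol hs

theorem conj_not_mem {g : G} (hS : g * (x * x) * g⁻¹ ∈ S) (hne : g * (x * x) * g⁻¹ ≠ x * x) :
    g * (x * x) * g⁻¹ ∉ A := fun h => O.quad.ne_inv (by
  rw [← O.inverts g hS hne x O.mem O.quad, (O.split.comm h O.mem_A).eq, mul_inv_cancel_right])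

/-- The maximal 2-subgroups of `C(x)`. -/
theorem sylow_le {R : Subgroup G} (hR : IsPGroup 2 R) (hAR : A ≤ R) (hRx : ∀ r ∈ R, Commute r x) : R = A := by
  obtain ⟨k, hk, hkS⟩ := exists_conj_le S (c := x * x) (fun s hs => O.cen hs) hR fun r hr =>
    (hRx r hr).mul_right (hRx r hr)
  refine (Subgroup.eq_of_le_of_card_ge hAR ?_).symm
  have hkx : k * x * k⁻¹ ∈ S := hkS x (hAR O.mem_A)
  have hle : R.map (MulAut.conj k).toMonoidHom ≤ A := by
    rintro _ ⟨r, hr, rfl⟩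
    show k * r * k⁻¹ ∈ A
    by_contra hA
    have h1 := O.split.conj (hkS r hr) hA (O.split.quad_mem hkx (O.quad.conj k))
    have h2 := (hRx r hr).map (MulAut.conj k).toMonoidHom
    simp only [MulEquiv.coe_toMonoidHom, MulAut.conj_apply] at h2
    rw [h2.eq, mul_inv_cancel_right] at h1
    exact (O.quad.conj k).ne_inv h1.symm
  have := card_le_of_le hle
  rwa [card_map_of_injective (MulAut.conj k).injective] at this

theorem cen_odd {n : G} (hnx : Commute n x) (hodd : Odd (orderOf n)) (hnA : ∀ a ∈ A, n * a * n⁻¹ ∈ A) :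
    ∀ a ∈ A, Commute n a := by
  obtain ⟨j, hj⟩ := hodd
  have hnn : n = (n * n) ^ (j + 1) := by
    rw [← pow_two, ← pow_mul, show 2 * (j + 1) = orderOf n + 1 by omega, pow_succ, pow_orderOf_eq_one, one_mul]
  have of_sq : ∀ a, Commute (n * n) a → Commute n a := fun a ha => by rw [hnn]; exact ha.pow_left _
  have hquad : ∀ d ∈ A, Quad d → Commute n d := by
    intro d hd hq
    have hc : Commute n (d * d) := by rw [O.one d (O.split.le hd) hq]; exact hnx.mul_right hnx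
    rcases quad_conj O.nt hq hc with e | e
    · exact mul_inv_eq_iff_eq_mul.1 e
    · refine of_sq d (mul_inv_eq_iff_eq_mul.1 ?_)
      rw [show n * n * d * (n * n)⁻¹ = n * (n * d * n⁻¹) * n⁻¹ by group, e, ← conj_inv, e, inv_inv]
  have hE : ∀ a ∈ A, a * a = 1 → Commute n a := by
    intro a ha ha2
    have hax := O.split.comm ha O.mem_A
    have hq : Quad (a * x) := by
      have : a * x * (a * x) = x * x := by rw [hax.symm.mul_mul_mul_comm, ha2, one_mul]
      exact ⟨this ▸ O.quad.1, by rw [this]; exact O.quad.2⟩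
    have h1 := (hquad _ (mul_mem ha O.mem_A) hq).mul_right hnx.inv_right
    rwa [mul_inv_cancel_right] at h1
  suffices H : ∀ k, ∀ a ∈ A, a ^ 2 ^ k = 1 → Commute n a by
    intro a ha
    obtain ⟨k, hk⟩ := two_pow_of_mem S.2 (O.split.le ha)
    exact H k a ha (hk ▸ pow_orderOf_eq_one a)
  intro k
  induction k with
  | zero =>
    intro a _ ha1
    rw [pow_zero, pow_one] at ha1
    rw [ha1]; exact Commute.one_right n
  | succ k ih =>
    intro a ha hk
    have h2 : Commute n (a * a) := ih _ (mul_mem ha ha) (by rw [← pow_two, ← pow_mul, ← pow_succ']; exact hk)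
    set c := n * a * n⁻¹ * a⁻¹ with hc
    have hcA : c ∈ A := mul_mem (hnA a ha) (inv_mem ha)
    have hna : n * a * n⁻¹ = c * a := by rw [hc, inv_mul_cancel_right]
    have hc2 : c * c = 1 := by
      have e : n * (a * a) * n⁻¹ = a * a := by rw [h2.eq, mul_inv_cancel_right]
      rw [show n * (a * a) * n⁻¹ = n * a * n⁻¹ * (n * a * n⁻¹) by group, hna,
        (O.split.comm ha hcA).mul_mul_mul_comm] at e
      exact mul_eq_right.1 e
    refine of_sq a (mul_inv_eq_iff_eq_mul.1 ?_)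
    have hnc : n * c * n⁻¹ = c := by rw [(hE c hcA hc2).eq, mul_inv_cancel_right]
    rw [show n * n * a * (n * n)⁻¹ = n * (n * a * n⁻¹) * n⁻¹ by group, hna,
      show n * (c * a) * n⁻¹ = n * c * n⁻¹ * (n * a * n⁻¹) by group, hnc, hna, ← mul_assoc, hc2, one_mul]

/-- `C(x)` has a normal 2-complement. -/
theorem exists_compl : ∃ N : Subgroup G, (∀ o, o ∈ N ↔ Commute o x ∧ Odd (orderOf o)) ∧
    ∀ c, Commute c x → ∃ o ∈ N, ∃ a ∈ A, o * a = c := by
  haveI : Fact (Nat.Prime 2) := ⟨Nat.prime_two⟩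
  set C := centralizer ({x} : Set G) with hC
  have hAC : A ≤ C := fun a ha => mem_centralizer_singleton_iff.2 (O.split.comm ha O.mem_A).eq
  obtain ⟨R, hR⟩ := ((S.2.to_le O.split.le).of_equiv (subgroupOfEquivOfLe hAC).symm).exists_le_sylow
  have hRA : ((R : Subgroup C).map C.subtype) = A := O.sylow_le (R.2.map _)
    (fun a ha => ⟨⟨a, hAC ha⟩, hR ha, rfl⟩)
    (by rintro _ ⟨r, -, rfl⟩; exact mem_centralizer_singleton_iff.1 r.2)
  have hmemR : ∀ c : C, c ∈ R ↔ (c : G) ∈ A := fun c => by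
    rw [← hRA]
    constructor
    · exact fun h => ⟨c, h, rfl⟩
    · rintro ⟨d, hd, hdc⟩; exact (Subtype.ext hdc : d = c) ▸ hd
  have hP : normalizer ((R : Subgroup C) : Set C) ≤ centralizer ((R : Subgroup C) : Set C) := by
    intro n hn
    obtain ⟨a, o, hodd, ho⟩ := Nat.exists_eq_two_pow_mul_odd (orderOf_pos n).ne'
    -- the 2-part lies in `R`
    have h2 : n ^ o ∈ R := by
      have hQ : IsPGroup 2 ↥(zpowers (n ^ o)) := by
        refine IsPGroup.of_card_dvd_pow (n := a) ?_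
        rw [Nat.card_zpowers]
        exact orderOf_dvd_of_pow_eq_one (by rw [← pow_mul, mul_comm, ← ho, pow_orderOf_eq_one])
      have h1 : n ^ o ∈ zpowers (n ^ o) ⊓ normalizer ((R : Subgroup C) : Set C) :=
        ⟨mem_zpowers _, pow_mem hn o⟩
      exact ((hQ.inf_normalizer_sylow R).le h1).2
    have hA' : ∀ b ∈ A, ((n ^ 2 ^ a : C) : G) * b * ((n ^ 2 ^ a : C) : G)⁻¹ ∈ A := fun b hb => by
      have h1 := (mem_normalizer_iff.1 (pow_mem hn (2 ^ a)) ⟨b, hAC hb⟩).1 ((hmemR _).2 hb)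
      exact (hmemR _).1 h1
    have hc := O.cen_odd (n := ((n ^ 2 ^ a : C) : G)) (mem_centralizer_singleton_iff.1 (n ^ 2 ^ a : C).2)
      (by
        rw [Subgroup.orderOf_coe]
        refine hodd.of_dvd_nat (orderOf_dvd_of_pow_eq_one ?_)
        rw [← pow_mul, ← ho, pow_orderOf_eq_one]) hA'
    obtain ⟨u', v', huv⟩ : ∃ u' v' : ℤ, (2 ^ a : ℤ) * u' + (o : ℤ) * v' = 1 := by
      have hcop : Int.gcd (2 ^ a : ℤ) o = 1 := by
        rw [show (2 ^ a : ℤ) = ((2 ^ a : ℕ) : ℤ) by push_cast; rfl, Int.gcd_natCast_natCast]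
        exact Nat.Coprime.pow_left a (Nat.coprime_two_left.2 hodd)
      exact ⟨Int.gcdA _ _, Int.gcdB _ _, by rw [← Int.gcd_eq_gcd_ab, hcop]; rfl⟩
    refine mem_centralizer_iff.2 fun b hb => ?_
    have c1 : Commute (n ^ 2 ^ a) b := Subtype.ext (hc _ ((hmemR b).1 hb)).eq
    have c2 : Commute (n ^ o) b := Subtype.ext (O.split.comm ((hmemR _).1 h2) ((hmemR b).1 hb)).eq
    have e : n = (n ^ 2 ^ a) ^ u' * (n ^ o) ^ v' := by
      rw [← zpow_natCast n (2 ^ a), ← zpow_natCast n o, ← zpow_mul, ← zpow_mul, ← zpow_add]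
      push_cast
      rw [huv, zpow_one]
    rw [e]
    exact ((c1.zpow_left u').mul_left (c2.zpow_left v')).symm.eq
  set f := MonoidHom.transferSylow R hP
  have hcompl := MonoidHom.ker_transferSylow_isComplement' R hP
  obtain ⟨hcop, k, hk⟩ := Cfsg.Lib.Transfer.complement_props (p := 2) (N := f.ker) (P := R) hcompl
  refine ⟨f.ker.map C.subtype, fun o => ?_, fun c hc => ?_⟩
  · constructor
    · rintro ⟨y, hy, rfl⟩
      refine ⟨mem_centralizer_singleton_iff.1 y.2, ?_⟩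
      rw [Subgroup.coe_subtype, Subgroup.orderOf_coe]
      exact Nat.coprime_two_right.1 ((Cfsg.Lib.Transfer.mem_iff_coprime_orderOf hcop hk y).1 hy)
    · rintro ⟨hox, hodd⟩
      refine ⟨⟨o, mem_centralizer_singleton_iff.2 hox.eq⟩,
        (Cfsg.Lib.Transfer.mem_iff_coprime_orderOf hcop hk _).2 ?_, rfl⟩
      rw [Subgroup.orderOf_mk]
      exact Nat.coprime_two_right.2 hodd
  · obtain ⟨⟨n, r⟩, hnr⟩ := hcompl.2 ⟨c, mem_centralizer_singleton_iff.2 hc.eq⟩
    exact ⟨(n : C), ⟨n, n.2, rfl⟩, ((r : C) : G), (hmemR _).1 r.2, congrArg Subtype.val hnr⟩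

/-- Fusion in the centralizer of the square. -/
theorem fus {k a b : G} (hk : Commute k (x * x)) (ha : a ∈ S) (hb : b ∈ S) (hab : k * a * k⁻¹ = b) :
    ∃ s ∈ S, s * a * s⁻¹ = b := by
  haveI : Fact (Nat.Prime 2) := ⟨Nat.prime_two⟩
  obtain ⟨N, hN, hNA⟩ := O.exists_compl
  obtain ⟨u, hu, huA⟩ := O.split.ne
  obtain ⟨s₀, hs₀, hks⟩ : ∃ s₀ ∈ S, Commute (k * s₀) x := by
    rcases quad_conj O.nt O.quad hk with e | e
    · exact ⟨1, one_mem _, by rw [mul_one]; exact mul_inv_eq_iff_eq_mul.1 e⟩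
    · refine ⟨u, hu, mul_inv_eq_iff_eq_mul.1 ?_⟩
      rw [show k * u * x * (k * u)⁻¹ = k * (u * x * u⁻¹) * k⁻¹ by group, O.split.conj hu huA O.mem_A, ← conj_inv, e,
        inv_inv]
  obtain ⟨o, ho, a₀, ha₀, hoa⟩ := hNA _ hks
  set a' := a₀ * (s₀⁻¹ * a * s₀) * a₀⁻¹ with ha'
  have ha'S : a' ∈ S := mul_mem (mul_mem (O.split.le ha₀) (mul_mem (mul_mem (inv_mem hs₀) ha) hs₀))
    (inv_mem (O.split.le ha₀))
  have hb' : o * a' * o⁻¹ = b := by
    rw [← hab, show k = o * a₀ * s₀⁻¹ by rw [hoa]; group, ha']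
    group
  obtain ⟨hox, hodd⟩ := (hN o).1 ho
  have hconj : a' * o⁻¹ * a'⁻¹ ∈ N := by
    refine (hN _).2 ⟨?_, ?_⟩
    · have h1 : Commute o⁻¹ (a'⁻¹ * x * a') := by
        rcases sign O.nt S.2 O.mem O.quad (inv_mem ha'S) with e | e <;> rw [inv_inv] at e <;> rw [e]
        · exact hox.inv_left
        · exact hox.inv_inv
      have h2 := h1.map (MulAut.conj a').toMonoidHom
      simp only [MulEquiv.coe_toMonoidHom, MulAut.conj_apply] at h2
      rw [show a' * (a'⁻¹ * x * a') * a'⁻¹ = x by group] at h2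
      exact h2
    · rw [show a' * o⁻¹ * a'⁻¹ = MulAut.conj a' o⁻¹ from rfl, MulEquiv.orderOf_eq, orderOf_inv]
      exact hodd
  have h1 : b * a'⁻¹ ∈ N := by
    rw [← hb', show o * a' * o⁻¹ * a'⁻¹ = o * (a' * o⁻¹ * a'⁻¹) by group]
    exact mul_mem ho hconj
  obtain ⟨i, hi⟩ := two_pow_of_mem S.2 (mul_mem hb (inv_mem ha'S))
  have h2 := ((hN _).1 h1).2
  rw [hi] at h2
  have h3 : orderOf (b * a'⁻¹) = 1 := by
    rw [hi]
    rcases i with _ | i
    · rfl
    · exact absurd h2 (Nat.not_odd_iff_even.2 ⟨2 ^ i, by ring⟩)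
  refine ⟨a₀ * s₀⁻¹, mul_mem (O.split.le ha₀) (inv_mem hs₀), ?_⟩
  rw [mul_inv_eq_one.1 (orderOf_eq_one_iff.1 h3), ha']
  group

/-- Two conjugates in one coset of the involutions. -/
theorem pair {v : G} {g g' : G} (hv : v = g * (x * x) * g⁻¹) (hvS : v ∈ S) (hvne : v ≠ x * x) {e : G}
    (he : e ∈ O.split.invol) (hv' : v * e = g' * (x * x) * g'⁻¹) : e = 1 ∨ e = x * x := by
  have hvA : v ∉ A := hv ▸ O.conj_not_mem (hv ▸ hvS) (hv ▸ hvne)
  have hmv : g⁻¹ * v * g⁻¹⁻¹ = x * x := by rw [hv]; group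
  obtain ⟨h, w, hhv, hw, hwA, hF, hF'⟩ := O.split.exists_move hvS hvA (g := g⁻¹) fun s hs => hmv ▸ O.cen hs
  rw [hmv] at hhv
  set q := h * (v * e) * h⁻¹ with hq
  have hqF : q ∈ cenS S w := hF _ (mul_mem (mem_cenS.2 ⟨hvS, Commute.refl v⟩)
    ((O.split.cenS_cases hvS hvA).2 (Or.inl he)))
  by_cases hqz : q = x * x
  · left
    rw [hq, ← hhv, mul_left_inj, mul_right_inj, mul_eq_left] at hqz
    exact hqz
  · right
    have hqe : q = (h * g') * (x * x) * (h * g')⁻¹ := by rw [hq, hv']; group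
    have hqA : q ∉ A := hqe ▸ O.conj_not_mem (hqe ▸ (mem_cenS.1 hqF).1) (hqe ▸ hqz)
    have hact := (O.split.quad_act x O.mem_A hw hwA hqF).2 hqA
    have hv2 : v * v = 1 := O.split.out v hvS hvA
    have he' : h⁻¹ * (x * x * q) * h = e := by
      rw [hq, ← hhv]
      rw [show h⁻¹ * (h * v * h⁻¹ * (h * (v * e) * h⁻¹)) * h = v * v * e by group, hv2, one_mul]
    by_contra hne
    have hec : e = (h⁻¹ * x * (h * g')) * (x * x) * (h⁻¹ * x * (h * g'))⁻¹ := by
      rw [← he', ← hact, hqe]; group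
    exact O.conj_not_mem (g := h⁻¹ * x * (h * g')) (hec ▸ O.split.le he.1) (hec ▸ hne) (hec ▸ he.1)

/-- `A` is the product of a cyclic group and involutions. -/
theorem decomp : ∃ g₀ ∈ A, g₀ * g₀ ≠ 1 ∧ x * x ∈ zpowers (g₀ * g₀) ∧
    ∀ a ∈ A, ∃ i : ℤ, ∃ e ∈ O.split.invol, a = g₀ ^ i * e := by
  haveI : Fact (Nat.Prime 2) := ⟨Nat.prime_two⟩
  obtain ⟨⟨g₀, hg₀⟩, hmax⟩ := Finite.exists_max fun a : A => orderOf (a : G)
  have hx4 : 4 ≤ orderOf g₀ := le_trans (by rw [O.quad.order]; norm_num) (hmax ⟨x, O.mem_A⟩)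
  have hg2 : g₀ * g₀ ≠ 1 := fun e => by
    have := Nat.le_of_dvd two_pos (orderOf_dvd_of_pow_eq_one (show g₀ ^ 2 = 1 by rw [pow_two, e]))
    omega
  obtain ⟨n, hn⟩ := two_pow_of_mem S.2 (O.split.le hg₀)
  have htop : ∀ a ∈ A, ∀ j, orderOf a = 2 ^ (j + 2) → a ^ 2 ^ (j + 1) = x * x := fun a ha j hj => by
    have hq : Quad (a ^ 2 ^ j) := by
      refine ⟨fun e => ?_, ?_⟩
      · rw [← pow_add, ← orderOf_dvd_iff_pow_eq_one, hj, ← two_mul, ← pow_succ',
          Nat.pow_dvd_pow_iff_le_right (by norm_num : 1 < 2)] at e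
        omega
      · simp only [← pow_add]
        rw [← orderOf_dvd_iff_pow_eq_one, hj]
        exact dvd_of_eq (by ring)
    rw [← O.one _ (O.split.le (pow_mem ha _)) hq, ← pow_add, ← two_mul, pow_succ']
  refine ⟨g₀, hg₀, hg2, ?_, ?_⟩
  · obtain ⟨j, rfl⟩ : ∃ j, n = j + 2 := ⟨n - 2, by
      by_contra hlt
      have : orderOf g₀ ≤ 2 := hn ▸ le_trans (Nat.pow_le_pow_right two_pos (show n ≤ 1 by omega)) (by norm_num)
      omega⟩
    refine mem_zpowers_iff.2 ⟨(2 ^ j : ℕ), ?_⟩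
    rw [zpow_natCast, ← pow_two, ← pow_mul, ← pow_succ', htop g₀ hg₀ j hn]
  · suffices H : ∀ k, ∀ a ∈ A, a ^ 2 ^ k = 1 → ∃ i : ℤ, ∃ e ∈ O.split.invol, a = g₀ ^ i * e by
      intro a ha
      obtain ⟨k, hk⟩ := two_pow_of_mem S.2 (O.split.le ha)
      exact H k a ha (hk ▸ pow_orderOf_eq_one a)
    intro k
    induction k with
    | zero =>
      intro a ha h1
      rw [pow_zero, pow_one] at h1
      exact ⟨0, 1, one_mem _, by rw [h1, zpow_zero, one_mul]⟩
    | succ k ih =>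
      intro a ha hk
      by_cases hlow : a ^ 2 ^ k = 1
      · exact ih a ha hlow
      rcases k with _ | j
      · refine ⟨0, a, ⟨ha, ?_⟩, by rw [zpow_zero, one_mul]⟩
        rwa [zero_add, pow_one, pow_two] at hk
      have ho : orderOf a = 2 ^ (j + 1 + 1) := orderOf_eq_prime_pow hlow hk
      have hjn : j + 2 ≤ n := by
        have h1 := hmax ⟨a, ha⟩
        simp only [ho, hn] at h1
        exact (Nat.pow_le_pow_iff_right (by norm_num)).1 h1
      obtain ⟨d, rfl⟩ : ∃ d, n = j + 2 + d := ⟨n - (j + 2), by omega⟩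
      set b := g₀ ^ 2 ^ d with hb
      have hbA : b ∈ A := pow_mem hg₀ _
      have hbt : b ^ 2 ^ (j + 1) = x * x := by
        rw [hb, ← pow_mul, ← pow_add, show d + (j + 1) = j + d + 1 by omega,
          htop g₀ hg₀ (j + d) (by rw [hn]; congr 1; omega)]
      have hsmall : (a * b⁻¹) ^ 2 ^ (j + 1) = 1 := by
        rw [(O.split.comm ha (inv_mem hbA)).mul_pow, inv_pow, hbt, htop a ha j ho, mul_inv_cancel]
      obtain ⟨i, e, he, hae⟩ := ih _ (mul_mem ha (inv_mem hbA)) hsmall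
      refine ⟨(2 ^ d : ℕ) + i, e, he, ?_⟩
      rw [zpow_add, zpow_natCast, ← hb, mul_assoc, ← hae, (O.split.comm ha (inv_mem hbA)).eq, mul_inv_cancel_left]

/-- A subgroup of index two containing all conjugates of the square but not `e`. -/
theorem exists_max {g₀ : G} (hg₀ : g₀ ∈ A) (hg2 : g₀ * g₀ ≠ 1) (hz : x * x ∈ zpowers (g₀ * g₀))
    (hdec : ∀ a ∈ A, ∃ i : ℤ, ∃ e ∈ O.split.invol, a = g₀ ^ i * e) {g : G} (hvS : g * (x * x) * g⁻¹ ∈ S)
    (hvne : g * (x * x) * g⁻¹ ≠ x * x) {e : G} (he : e ∈ O.split.invol) (hez : e ≠ x * x) (he1 : e ≠ 1) :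
    ∃ M : Subgroup G, M ≤ S ∧ M.relIndex (S : Subgroup G) = 2 ∧ e ∉ M ∧
      (∀ s ∈ S, ∀ y ∈ M, s * y * s⁻¹ ∈ M) ∧
      ∀ g' : G, g' * (x * x) * g'⁻¹ ∈ S → g' * (x * x) * g'⁻¹ ∈ M := by
  classical
  set v := g * (x * x) * g⁻¹ with hv
  have hvA : v ∉ A := O.conj_not_mem hvS hvne
  have hv2 : v * v = 1 := O.split.out v hvS hvA
  have hzA : x * x ∈ A := O.sq_invol.1
  set Q := zpowers (g₀ * g₀) with hQ
  have hQA : Q ≤ A := zpowers_le.2 (mul_mem hg₀ hg₀)
  have heven : ∀ i : ℤ, g₀ ^ (2 * i) ∈ Q := fun i => mem_zpowers_iff.2 ⟨i, by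
    rw [zpow_mul, zpow_two]⟩
  -- products of two conjugates
  have hprod : ∀ {g₁ g₂ : G}, g₁ * (x * x) * g₁⁻¹ ∈ S → g₁ * (x * x) * g₁⁻¹ ≠ x * x →
      g₂ * (x * x) * g₂⁻¹ ∈ S → g₂ * (x * x) * g₂⁻¹ ≠ x * x → ∀ (i : ℤ) (e' : G), e' ∈ O.split.invol →
      g₁ * (x * x) * g₁⁻¹ * (g₂ * (x * x) * g₂⁻¹) = g₀ ^ (2 * i) * e' → e' ∈ Q := by
    intro g₁ g₂ h1 n1 h2 n2 i e' he' heq
    set v₁ := g₁ * (x * x) * g₁⁻¹ with hv₁
    have hv₁A : v₁ ∉ A := O.conj_not_mem h1 n1
    have hmem : g₀ ^ i ∈ A := zpow_mem hg₀ i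
    set s := g₀ ^ i with hs
    have hvs : v₁ * s * v₁⁻¹ = s⁻¹ := O.split.conj h1 hv₁A hmem
    have h3 : s⁻¹ * v₁ * s = v₁ * g₀ ^ (2 * i) := by
      rw [show s⁻¹ * v₁ * s = v₁ * (v₁⁻¹ * s⁻¹ * v₁ * s) by group, O.split.inv_eq h1 hv₁A]
      congr 1
      rw [mul_comm 2 i, zpow_mul, zpow_two, ← hs]
      have h4 : v₁ * s⁻¹ * v₁⁻¹ = s := by rw [← conj_inv, hvs, inv_inv]
      rw [O.split.inv_eq h1 hv₁A] at h4
      rw [h4]
    have h4 : g₂ * (x * x) * g₂⁻¹ = s⁻¹ * v₁ * s * e' := by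
      rw [h3, mul_assoc v₁, ← heq, ← mul_assoc v₁ v₁, O.split.out _ h1 hv₁A, one_mul]
    rcases O.pair (v := s⁻¹ * v₁ * s) (g := s⁻¹ * g₁) (g' := g₂) (by rw [hv₁]; group)
      (mul_mem (mul_mem (inv_mem (O.split.le hmem)) h1) (O.split.le hmem))
      (fun h5 => n1 (by
        rw [show v₁ = s * (s⁻¹ * v₁ * s) * s⁻¹ by group, h5, (O.cen (O.split.le hmem)).eq,
          mul_inv_cancel_right])) he' h4.symm with r | r
    · rw [r]; exact one_mem _
    · rw [r]; exact hz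
  -- the subgroup generated by the products
  obtain ⟨a₀, ha₀A, ha₀, hall⟩ : ∃ a₀ ∈ A,
      (a₀ = 1 ∨ ∃ i : ℤ, ∃ e' ∈ O.split.invol, a₀ = g₀ ^ (2 * i + 1) * e') ∧
      ∀ g' : G, g' * (x * x) * g'⁻¹ ∈ S → g' * (x * x) * g'⁻¹ ≠ x * x →
        v * (g' * (x * x) * g'⁻¹) ∈ Q ⊔ zpowers a₀ := by
    by_cases hex : ∃ g' : G, g' * (x * x) * g'⁻¹ ∈ S ∧ g' * (x * x) * g'⁻¹ ≠ x * x ∧
        ∃ i : ℤ, ∃ e' ∈ O.split.invol, v * (g' * (x * x) * g'⁻¹) = g₀ ^ (2 * i + 1) * e'
    · obtain ⟨g₁, h1, n1, i, e₁, he₁, heq⟩ := hex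
      refine ⟨v * (g₁ * (x * x) * g₁⁻¹), O.split.mul v hvS _ h1 hvA (O.conj_not_mem h1 n1),
        Or.inr ⟨i, e₁, he₁, heq⟩, fun g' h2 n2 => ?_⟩
      obtain ⟨j, e', he', heq'⟩ := hdec _ (O.split.mul v hvS _ h2 hvA (O.conj_not_mem h2 n2))
      rcases Int.even_or_odd' j with ⟨t, rfl | rfl⟩
      · rw [heq']
        exact mem_sup_left (mul_mem (heven t) (hprod hvS hvne h2 n2 t e' he' heq'))
      · have hd : g₁ * (x * x) * g₁⁻¹ * (g' * (x * x) * g'⁻¹) = g₀ ^ (2 * (t - i)) * (e₁ * e') := by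
          have hc1 := O.split.comm he₁.1 (zpow_mem hg₀ (2 * t + 1))
          have hsq1 : g₁ * (x * x) * g₁⁻¹ * (g₁ * (x * x) * g₁⁻¹) = 1 :=
            O.split.out _ h1 (O.conj_not_mem h1 n1)
          have hinv : (v * (g₁ * (x * x) * g₁⁻¹))⁻¹ = g₁ * (x * x) * g₁⁻¹ * v := by
            rw [mul_inv_rev, inv_eq_of_mul_eq_one_right hv2, inv_eq_of_mul_eq_one_right hsq1]
          have : g₁ * (x * x) * g₁⁻¹ * (g' * (x * x) * g'⁻¹) =
              (v * (g₁ * (x * x) * g₁⁻¹))⁻¹ * (v * (g' * (x * x) * g'⁻¹)) := by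
            rw [hinv, mul_assoc _ v, ← mul_assoc v v, hv2, one_mul]
          rw [this, heq, heq', mul_inv_rev, inv_eq_of_mul_eq_one_right he₁.2,
            show 2 * (t - i) = -(2 * i + 1) + (2 * t + 1) by ring, zpow_add g₀ (-(2 * i + 1)), zpow_neg]
          have hc2 : Commute e₁ (g₀ ^ (2 * i + 1))⁻¹ := O.split.comm he₁.1 (inv_mem (zpow_mem hg₀ _))
          rw [hc2.eq, mul_assoc, ← mul_assoc e₁, hc1.eq]
          group
        have h5 := hprod h1 n1 h2 n2 (t - i) (e₁ * e') (mul_mem he₁ he') hd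
        have h6 : v * (g' * (x * x) * g'⁻¹) =
            v * (g₁ * (x * x) * g₁⁻¹) * (g₁ * (x * x) * g₁⁻¹ * (g' * (x * x) * g'⁻¹)) := by
          rw [mul_assoc v, ← mul_assoc _ _ (g' * (x * x) * g'⁻¹), O.split.out _ h1 (O.conj_not_mem h1 n1), one_mul]
        rw [h6, hd]
        exact mul_mem (mem_sup_right (mem_zpowers _)) (mem_sup_left (mul_mem (heven _) h5))
    · refine ⟨1, one_mem _, Or.inl rfl, fun g' h2 n2 => ?_⟩
      obtain ⟨j, e', he', heq'⟩ := hdec _ (O.split.mul v hvS _ h2 hvA (O.conj_not_mem h2 n2))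
      rcases Int.even_or_odd' j with ⟨t, rfl | rfl⟩
      · rw [heq']
        exact mem_sup_left (mul_mem (heven t) (hprod hvS hvne h2 n2 t e' he' heq'))
      · exact absurd ⟨g', h2, n2, t, e', he', heq'⟩ hex
  set L := Q ⊔ zpowers a₀ with hL
  have hLA : L ≤ A := sup_le hQA (zpowers_le.2 ha₀A)
  -- it does not contain `e`
  have heL : e ∉ L := by
    intro h
    have hn : zpowers a₀ ≤ normalizer (Q : Set G) := zpowers_le.2 (mem_normalizer_fintype fun y hy => by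
      rw [(O.split.comm ha₀A (hQA hy)).eq, mul_inv_cancel_right]; exact hy)
    rw [hL, ← SetLike.mem_coe, Subgroup.coe_mul_of_right_le_normalizer_left Q (zpowers a₀) hn] at h
    obtain ⟨p, hp, r, hr, hpr⟩ := h
    obtain ⟨i, hi⟩ := mem_zpowers_iff.1 hp
    obtain ⟨j, hj⟩ := mem_zpowers_iff.1 hr
    have hinQ : ∀ y ∈ Q, y * y = 1 → y = 1 ∨ y = x * x := fun y hy hy2 => by
      by_cases h1 : y = 1
      · exact Or.inl h1
      · exact Or.inr (invol_unique hy hz hy2 h1 O.quad.2 O.quad.1)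
    rcases ha₀ with rfl | ⟨i₀, e₀, he₀, rfl⟩
    · have : e ∈ Q := by
        have hpr' : p * r = e := hpr
        rw [← hpr', ← hj, one_zpow, mul_one]; exact hp
      rcases hinQ e this he.2 with r' | r'
      · exact he1 r'
      · exact hez r'
    rcases Int.even_or_odd' j with ⟨t, rfl | rfl⟩
    · have : e ∈ Q := by
        have hpr' : p * r = e := hpr
        rw [← hpr', ← hj, (O.split.comm (zpow_mem hg₀ _) he₀.1).mul_zpow, zpow_mul e₀, zpow_two, he₀.2, one_zpow,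
          mul_one, ← zpow_mul]
        refine mul_mem hp ?_
        rw [show (2 * i₀ + 1) * (2 * t) = 2 * ((2 * i₀ + 1) * t) by ring]
        exact heven _
      rcases hinQ e this he.2 with r' | r'
      · exact he1 r'
      · exact hez r'
    · have hpr' : p * r = e := hpr
      rw [← hi, ← hj, (O.split.comm (zpow_mem hg₀ _) he₀.1).mul_zpow, zpow_add_one e₀, zpow_mul e₀, zpow_two e₀,
        he₀.2, one_zpow, one_mul, ← zpow_two, ← zpow_mul, ← zpow_mul, ← mul_assoc, ← zpow_add,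
        show (2 : ℤ) * i + (2 * i₀ + 1) * (2 * t + 1) = 2 * (i + (2 * i₀ + 1) * t + i₀) + 1 by ring] at hpr'
      set k := i + (2 * i₀ + 1) * t + i₀
      have hmem : g₀ ^ (2 * k + 1) ∈ O.split.invol := by
        rw [eq_mul_inv_of_mul_eq hpr']
        exact mul_mem he (inv_mem he₀)
      have hodd : g₀ ^ (2 * (2 * k + 1)) = 1 := by rw [mul_comm, zpow_mul, zpow_two, hmem.2]
      obtain ⟨n, hn⟩ := two_pow_of_mem S.2 (O.split.le hg₀)
      refine hg2 ?_
      rw [← zpow_two, ← orderOf_dvd_iff_zpow_eq_one]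
      rw [← orderOf_dvd_iff_zpow_eq_one] at hodd
      refine IsCoprime.dvd_of_dvd_mul_right ?_ hodd
      rw [hn]
      push_cast
      exact IsCoprime.pow_left (Int.isCoprime_iff_gcd_eq_one.2 (by
        rcases Nat.dvd_prime Nat.prime_two |>.1 (show Int.gcd 2 (2 * k + 1) ∣ 2 from
          Int.natCast_dvd_natCast.1 (Int.gcd_dvd_left _ _)) with r' | r'
        · exact r'
        · have := Int.gcd_dvd_right (2 : ℤ) (2 * k + 1)
          rw [r'] at this
          push_cast at this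
          omega))
  -- extend by `v`
  set L' := L ⊔ zpowers v with hL'
  have hLn : zpowers v ≤ normalizer (L : Set G) := zpowers_le.2 (mem_normalizer_fintype fun y hy => by
    rw [O.split.conj hvS hvA (hLA hy)]; exact inv_mem hy)
  have heL' : e ∉ L' := by
    intro h
    rw [hL', ← SetLike.mem_coe, Subgroup.coe_mul_of_right_le_normalizer_left L (zpowers v) hLn] at h
    obtain ⟨p, hp, r, hr, hpr⟩ := h
    have hpr' : p * r = e := hpr
    obtain ⟨i, rfl⟩ := mem_zpowers_iff.1 hr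
    rcases Int.even_or_odd' i with ⟨t, rfl | rfl⟩
    · rw [zpow_mul, zpow_two, hv2, one_zpow, mul_one] at hpr'
      exact heL (hpr' ▸ hp)
    · rw [zpow_add_one, zpow_mul, zpow_two, hv2, one_zpow, one_mul] at hpr'
      refine hvA ?_
      rw [eq_inv_mul_of_mul_eq hpr']
      exact mul_mem (inv_mem (hLA hp)) he.1
  -- a maximal subgroup avoiding `e`
  let T := {M : Subgroup G // M ≤ S ∧ L' ≤ M ∧ e ∉ M}
  haveI : Nonempty T := ⟨⟨L', sup_le (hLA.trans O.split.le) (zpowers_le.2 hvS), le_rfl, heL'⟩⟩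
  obtain ⟨⟨M, hMS, hLM, heM⟩, hmax⟩ := Finite.exists_max fun M : T => Nat.card M.1
  have hsq : ∀ s ∈ S, s * s ∈ M := by
    intro s hs
    refine hLM (mem_sup_left (mem_sup_left ?_))
    by_cases hsA : s ∈ A
    · obtain ⟨i, e', he', rfl⟩ := hdec s hsA
      rw [(O.split.comm he'.1 (zpow_mem hg₀ i)).mul_mul_mul_comm, he'.2, mul_one, ← zpow_two, ← zpow_mul,
        mul_comm]
      exact heven i
    · rw [O.split.out s hs hsA]; exact one_mem _
  have hnorm : ∀ s ∈ S, ∀ y ∈ M, s * y * s⁻¹ ∈ M := fun s hs y hy => by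
    rw [show s * y * s⁻¹ = s * y * (s * y) * y⁻¹ * (s * s)⁻¹ by group]
    exact mul_mem (mul_mem (hsq _ (mul_mem hs (hMS hy))) (inv_mem hy)) (inv_mem (hsq s hs))
  have hxor : ∀ b ∈ S, b ∉ M → b * e ∈ M := by
    intro b hb hbM
    have hbn : zpowers b ≤ normalizer (M : Set G) := zpowers_le.2 (mem_normalizer_fintype (hnorm b hb))
    have h1 : e ∈ M ⊔ zpowers b := by
      by_contra h
      have h2 := hmax ⟨M ⊔ zpowers b, sup_le hMS (zpowers_le.2 hb), hLM.trans le_sup_left, h⟩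
      exact hbM ((Subgroup.eq_of_le_of_card_ge (le_sup_left : M ≤ M ⊔ zpowers b) h2).symm ▸
        mem_sup_right (mem_zpowers b))
    rw [← SetLike.mem_coe, Subgroup.coe_mul_of_right_le_normalizer_left M (zpowers b) hbn] at h1
    obtain ⟨p, hp, r, hr, hpr⟩ := h1
    have hpr' : p * r = e := hpr
    obtain ⟨i, rfl⟩ := mem_zpowers_iff.1 hr
    rcases Int.even_or_odd' i with ⟨t, rfl | rfl⟩
    · refine absurd ?_ heM
      rw [← hpr', zpow_mul, zpow_two]
      exact mul_mem hp (zpow_mem (hsq b hb) t)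
    · rw [← hpr', zpow_add_one, ← mul_assoc, ← mul_assoc,
        show b * p * b ^ (2 * t) * b = b * p * b⁻¹ * (b * b ^ (2 * t) * b⁻¹) * (b * b) by group]
      refine mul_mem (mul_mem (hnorm b hb p hp) (hnorm b hb _ ?_)) (hsq b hb)
      rw [zpow_mul, zpow_two]
      exact zpow_mem (hsq b hb) t
  refine ⟨M, hMS, ?_, heM, hnorm, fun g' hg' => ?_⟩
  · rw [Subgroup.relIndex, Subgroup.index_eq_two_iff]
    refine ⟨⟨e, O.split.le he.1⟩, fun b => ?_⟩
    simp only [mem_subgroupOf, Subgroup.coe_mul]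
    by_cases hb : (b : G) ∈ M
    · exact Or.inr ⟨hb, fun h => heM (by simpa using mul_mem (inv_mem hb) h)⟩
    · exact Or.inl ⟨hxor b b.2 hb, hb⟩
  · by_cases hz' : g' * (x * x) * g'⁻¹ = x * x
    · rw [hz']
      exact hLM (mem_sup_left (mem_sup_left hz))
    · have h1 := mul_mem (hLM (mem_sup_right (mem_zpowers v))) (hLM (mem_sup_left (hall g' hg' hz')))
      rwa [← mul_assoc, hv2, one_mul] at h1

/-- The involutions of `A` are `1` and the square. -/
theorem invol_eq [IsSimpleGroup G] (hna : ¬ IsMulCommutative G) {g : G} (hvS : g * (x * x) * g⁻¹ ∈ S)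
    (hvne : g * (x * x) * g⁻¹ ≠ x * x) : ∀ e ∈ O.split.invol, e = 1 ∨ e = x * x := by
  intro e he
  by_contra! hne
  obtain ⟨he1, hez⟩ := hne
  obtain ⟨g₀, hg₀, hg2, hz, hdec⟩ := O.decomp
  obtain ⟨M, hMS, hMi, heM, hMn, hMO⟩ := O.exists_max hg₀ hg2 hz hdec hvS hvne he hez he1
  obtain ⟨k, hk⟩ := O.split.conj_into hna hMS hMi (O.split.le he.1) heM he.2
  set j := k * e * k⁻¹ with hj
  have hjS : j ∈ S := hMS hk
  have hj2 : j * j = 1 := by rw [hj, show k * e * k⁻¹ * (k * e * k⁻¹) = k * (e * e) * k⁻¹ by group, he.2]; group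
  have hfinal : ∀ y, Commute y (x * x) → y * j * y⁻¹ = e → False := by
    intro y hy hye
    obtain ⟨s, hs, hse⟩ := O.fus hy hjS (O.split.le he.1) hye
    refine heM ?_
    rw [← hse]
    exact hMn s hs j hk
  by_cases hjA : j ∈ A
  · -- both are central
    have hjc : ∀ s ∈ S, Commute s j := fun s hs => O.split.invol_cen ⟨hjA, hj2⟩ hs
    obtain ⟨l, hl, hlS⟩ := exists_conj_le S hjc (S.2.map (MulAut.conj k).toMonoidHom) (by
      rintro _ ⟨s, hs, rfl⟩
      exact (O.split.invol_cen he hs).map (MulAut.conj k).toMonoidHom)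
    set n := l * k with hn
    have hnS : ∀ s ∈ S, n * s * n⁻¹ ∈ S := fun s hs => by
      rw [hn, show l * k * s * (l * k)⁻¹ = l * (k * s * k⁻¹) * l⁻¹ by group]
      exact hlS _ ⟨s, hs, rfl⟩
    have hne' : n * e * n⁻¹ = j := by
      rw [hn, show l * k * e * (l * k)⁻¹ = l * (k * e * k⁻¹) * l⁻¹ by group, ← hj, hl.eq, mul_inv_cancel_right]
    have hnz : n * (x * x) * n⁻¹ = x * x := by
      exact (show n * (x * x) * n⁻¹ = n * x * n⁻¹ * (n * x * n⁻¹) by group).trans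
        (O.one _ (hnS x O.mem) (O.quad.conj n))
    refine hfinal n⁻¹ ?_ (by rw [← hne']; group)
    exact (show Commute n (x * x) from mul_inv_eq_iff_eq_mul.1 hnz).inv_left
  -- the other involutions
  obtain ⟨h, w, hhj, hw, hwA, hF, -⟩ := O.split.exists_move hjS hjA (g := k⁻¹) fun s hs => by
    rw [show k⁻¹ * j * k⁻¹⁻¹ = e by rw [hj]; group]
    exact O.split.invol_cen he hs
  rw [show k⁻¹ * j * k⁻¹⁻¹ = e by rw [hj]; group] at hhj
  set z' := h * (x * x) * h⁻¹ with hz'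
  have hz'w : z' ∈ cenS S w := hF _ ((O.split.cenS_cases hjS hjA).2 (Or.inl O.sq_invol))
  by_cases hzz : z' = x * x
  · exact hfinal h (mul_inv_eq_iff_eq_mul.1 hzz) hhj
  have hz'S := (mem_cenS.1 hz'w).1
  have hz'A : z' ∉ A := O.conj_not_mem hz'S hzz
  obtain ⟨h', w', hh', hw', hw'A, hF₁, -⟩ := O.split.exists_move hz'S hz'A (g := h⁻¹) fun s hs => by
    rw [show h⁻¹ * z' * h⁻¹⁻¹ = x * x by rw [hz']; group]
    exact O.cen hs
  rw [show h⁻¹ * z' * h⁻¹⁻¹ = x * x by rw [hz']; group] at hh'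
  set y := h'⁻¹ * x * h' with hy
  have hyact : ∀ f ∈ cenS S z', (h' * f * h'⁻¹ ∈ A → y * f * y⁻¹ = f) ∧
      (h' * f * h'⁻¹ ∉ A → y * f * y⁻¹ = z' * f) := by
    intro f hf
    obtain ⟨a1, a2⟩ := O.split.quad_act x O.mem_A hw' hw'A (hF₁ f hf)
    refine ⟨fun hh => ?_, fun hh => ?_⟩
    · rw [show y * f * y⁻¹ = h'⁻¹ * (x * (h' * f * h'⁻¹) * x⁻¹) * h' by rw [hy]; group, a1 hh]; group
    · rw [show y * f * y⁻¹ = h'⁻¹ * (x * (h' * f * h'⁻¹) * x⁻¹) * h' by rw [hy]; group, a2 hh, ← hh']; group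
  have hzF : x * x ∈ cenS S z' := (O.split.cenS_cases hz'S hz'A).2 (Or.inl O.sq_invol)
  have heF : e ∈ cenS S z' := (O.split.cenS_cases hz'S hz'A).2 (Or.inl he)
  have hyz' : y * z' * y⁻¹ = z' := by
    refine (hyact z' (mem_cenS.2 ⟨hz'S, Commute.refl z'⟩)).1 ?_
    rw [hh']; exact O.sq_invol.1
  have hyz : y * (x * x) * y⁻¹ = z' * (x * x) := by
    refine (hyact _ hzF).2 (O.conj_not_mem (mem_cenS.1 (hF₁ _ hzF)).1 fun e' => hzz ?_)
    exact mul_left_cancel (mul_right_cancel (hh'.trans e'.symm))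
  have hxz' : x * z' * x⁻¹ = x * x * z' :=
    (O.split.quad_act x O.mem_A hz'S hz'A (mem_cenS.2 ⟨hz'S, Commute.refl z'⟩)).2 hz'A
  have hzz' : Commute (x * x) z' := (O.cen hz'S).symm
  set t := y * x * h with ht
  have htz : Commute t (x * x) := by
    refine mul_inv_eq_iff_eq_mul.1 ?_
    rw [ht, show y * x * h * (x * x) * (y * x * h)⁻¹ = y * (x * (h * (x * x) * h⁻¹) * x⁻¹) * y⁻¹ by group, ← hz',
      hxz', show y * (x * x * z') * y⁻¹ = y * (x * x) * y⁻¹ * (y * z' * y⁻¹) by group, hyz, hyz', mul_assoc,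
      hzz'.eq, ← mul_assoc, O.split.out z' hz'S hz'A, one_mul]
  have htj : t * j * t⁻¹ = y * e * y⁻¹ := by
    rw [ht, show y * x * h * j * (y * x * h)⁻¹ = y * (x * (h * j * h⁻¹) * x⁻¹) * y⁻¹ by group, hhj,
      (O.split.invol_cen he O.mem).eq, mul_inv_cancel_right]
  by_cases hB : h' * e * h'⁻¹ ∈ A
  · exact hfinal t htz (htj.trans ((hyact e heF).1 hB))
  · obtain ⟨s, hs, hse⟩ := O.fus htz hjS (mul_mem hz'S (O.split.le he.1)) (htj.trans ((hyact e heF).2 hB))
    refine heM ?_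
    have h1 := hMn s hs j hk
    rw [hse] at h1
    have h2 := mul_mem (inv_mem (hMO h hz'S)) h1
    rwa [← hz', inv_mul_cancel_left] at h2

/-- The Sylow 2-subgroup is dihedral. -/
theorem dihedral [IsSimpleGroup G] (hna : ¬ IsMulCommutative G) {g : G} (hvS : g * (x * x) * g⁻¹ ∈ S)
    (hvne : g * (x * x) * g⁻¹ ≠ x * x) :
    ∃ n, 2 ≤ n ∧ Nonempty ((S : Subgroup G) ≃* DihedralGroup n) := by
  haveI : Fact (Nat.Prime 2) := ⟨Nat.prime_two⟩
  obtain ⟨g₀, hg₀, -, hz, hdec⟩ := O.decomp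
  have hA : A = zpowers g₀ := by
    refine le_antisymm (fun a ha => ?_) (zpowers_le.2 hg₀)
    obtain ⟨i, e, he, rfl⟩ := hdec a ha
    refine mul_mem (zpow_mem (mem_zpowers g₀) i) ?_
    rcases O.invol_eq hna hvS hvne e he with rfl | rfl
    · exact one_mem _
    · exact zpowers_le.2 (mul_mem (mem_zpowers g₀) (mem_zpowers g₀)) hz
  obtain ⟨v, hv, hvA⟩ := O.split.ne
  obtain ⟨m, hm⟩ := two_pow_of_mem S.2 (O.split.le hg₀)
  have hm2 : 2 ≤ m := by
    by_contra hlt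
    have h1 := A.orderOf_dvd_natCard O.mem_A
    rw [O.quad.order, hA, Nat.card_zpowers, hm] at h1
    exact absurd ((Nat.pow_dvd_pow_iff_le_right (by norm_num : 1 < 2)).1 h1) (by omega)
  let a' : (S : Subgroup G) := ⟨g₀, O.split.le hg₀⟩
  let b' : (S : Subgroup G) := ⟨v, hv⟩
  have hcard : Nat.card (S : Subgroup G) = 2 ^ (m + 1) := by
    have h := (A.subgroupOf (S : Subgroup G)).card_mul_index
    rw [Nat.card_congr (subgroupOfEquivOfLe O.split.le).toEquiv, ← Subgroup.relIndex, O.split.relIndex, hA,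
      Nat.card_zpowers, hm] at h
    rw [← h, pow_succ]
  have T : Cfsg.Lib.CyclicMax.TwoGen a' b' m (-1) 0 :=
    { ord := by rw [Subgroup.orderOf_mk, hm]
      card := hcard
      notMem := fun h => hvA (by
        obtain ⟨i, hi⟩ := mem_zpowers_iff.1 h
        have := congrArg (fun z : (S : Subgroup G) => (z : G)) hi
        simp only [SubgroupClass.coe_zpow] at this
        exact (show v = g₀ ^ i from this.symm) ▸ zpow_mem hg₀ i)
      conj := Subtype.ext (by
        push_cast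
        rw [zpow_neg_one]
        exact O.split.conj hv hvA hg₀)
      sq := Subtype.ext (by
        push_cast
        rw [zpow_zero]
        exact O.split.out v hv hvA) }
  refine ⟨2 ^ m, le_trans (by norm_num) (Nat.pow_le_pow_right two_pos hm2), Cfsg.Lib.CyclicMax.toDihedral T ?_⟩
  omega

end OneSquare

/-- One square: the Sylow 2-subgroups are dihedral. -/
theorem dihedral_of_one_square [IsSimpleGroup G] (hna : ¬ IsMulCommutative G) (hn : NormTwo G) (S : Sylow 2 G)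
    {x : G} (hx : x ∈ S) (hxq : Quad x) (hone : ∀ d ∈ S, Quad d → d * d = x * x) :
    ∃ n, 2 ≤ n ∧ Nonempty ((S : Subgroup G) ≃* DihedralGroup n) := by
  haveI : Fact (Nat.Prime 2) := ⟨Nat.prime_two⟩
  have hzS : x * x ∈ S := mul_mem hx hx
  have hinv : ∀ g : G, g * (x * x) * g⁻¹ ∈ S → g * (x * x) * g⁻¹ ≠ x * x →
      ∀ d ∈ S, Quad d → g * (x * x) * g⁻¹ * d * (g * (x * x) * g⁻¹)⁻¹ = d⁻¹ := by
    intro g hv hne d hd hdq
    set v := g * (x * x) * g⁻¹ with hvdef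
    refine (sign hn S.2 hd hdq hv).resolve_left fun e => ?_
    set y := g * x * g⁻¹ with hy
    have hyy : y * y = v := by rw [hy, hvdef]; group
    have hyq : Quad y := hxq.conj g
    have hdv : Commute d (y * y) := by
      rw [hyy]; exact (mul_inv_eq_iff_eq_mul.1 e : Commute v d).symm
    have hyd : Commute y (d * d) := by
      rcases quad_conj hn hyq hdv with r | r
      · have hh : Commute d y := mul_inv_eq_iff_eq_mul.1 r
        exact hh.symm.mul_right hh.symm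
      · suffices hh : d * d * y * (d * d)⁻¹ = y by
          have hc : Commute (d * d) y := mul_inv_eq_iff_eq_mul.1 hh
          exact hc.symm
        rw [show d * d * y * (d * d)⁻¹ = d * (d * y * d⁻¹) * d⁻¹ by group, r, ← conj_inv, r, inv_inv]
    have hc : Commute d y := quad_comm hn hdq hyq hdv hyd (by rw [hyy, hone d hd hdq]; exact Ne.symm hne)
    have hyS : ∀ r ∈ zpowers d ⊔ zpowers y, Commute r (d * d) := by
      intro r hr
      have h1 : zpowers d ⊔ zpowers y ≤ centralizer ({d * d} : Set G) :=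
        sup_le (zpowers_le.2 (mem_centralizer_singleton_iff.2 ((Commute.refl d).mul_right (Commute.refl d)).eq))
          (zpowers_le.2 (mem_centralizer_singleton_iff.2 hyd.eq))
      exact mem_centralizer_singleton_iff.1 (h1 hr)
    have hP : ∀ {a : G}, Quad a → IsPGroup 2 ↥(zpowers a) := fun {a} ha =>
      IsPGroup.of_card (n := 1 + 1) (by rw [Nat.card_zpowers, ha.order])
    have hdy : zpowers d ≤ normalizer (zpowers y : Set G) := zpowers_le.2 (mem_normalizer_fintype fun r hr => by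
      obtain ⟨i, rfl⟩ := mem_zpowers_iff.1 hr
      rw [(hc.zpow_right i).eq, mul_inv_cancel_right]
      exact hr)
    obtain ⟨k, hk, hkS⟩ := exists_conj_le S (c := d * d) (fun s hs => sq_central hn S.2 hd hdq hs)
      ((hP hdq).to_sup_of_normal_right' (hP hyq) hdy) hyS
    have h2 := hone _ (hkS y (mem_sup_right (mem_zpowers y))) (hyq.conj k)
    rw [show k * y * k⁻¹ * (k * y * k⁻¹) = k * (y * y) * k⁻¹ by group, hyy] at h2
    rw [hone d hd hdq] at hk
    refine hne ?_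
    rw [← mul_inv_cancel_right (x * x) k, ← hk.eq] at h2
    exact mul_left_cancel (mul_right_cancel h2)
  -- there is another conjugate
  obtain ⟨g, hgS, hgne⟩ : ∃ g : G, g * (x * x) * g⁻¹ ∈ S ∧ g * (x * x) * g⁻¹ ≠ x * x := by
    by_contra! h
    have ho : orderOf (x * x) = 2 := orderOf_eq_prime (by rw [pow_two]; exact hxq.2) hxq.1
    obtain ⟨N, hN, hNodd, hcomm⟩ := Cfsg.Agent.S0215.result S (x * x) ho hzS h
    rcases IsSimpleGroup.eq_bot_or_eq_top_of_normal N hN with rfl | rfl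
    · refine Cfsg.Lib.CyclicNorm.not_central hna hxq.1 fun a => ?_
      have h1 := mem_bot.1 (hcomm a)
      rw [mul_inv_eq_one, mul_inv_eq_iff_eq_mul] at h1
      exact h1.symm
    · rw [Subgroup.card_top] at hNodd
      have h2 : 2 ∣ Nat.card G := ho ▸ orderOf_dvd_natCard (x * x)
      exact absurd hNodd (Nat.not_odd_iff_even.2 (even_iff_two_dvd.2 h2))
  obtain h | ⟨A, P⟩ := comm_or_split hn S.2 ⟨x, hx, hxq⟩
    (uniform_of_one hn S.2 (fun a ha haq b hb hbq => (hone a ha haq).trans (hone b hb hbq).symm) hgS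
      (by rw [show g * (x * x) * g⁻¹ * (g * (x * x) * g⁻¹) = g * (x * x * (x * x)) * g⁻¹ by group, hxq.2]; group)
      (hinv g hgS hgne))
  · exfalso
    refine hxq.ne_inv ?_
    rw [← hinv g hgS hgne x hx hxq, (h _ hgS x hx).eq, mul_inv_cancel_right]
  exact OneSquare.dihedral ⟨hn, P, hx, hxq, hone, hinv⟩ hna hgS hgne

end Cfsg.Lib.TICyclic
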