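import Mathlib

/-!
Two-groups of a group in which cyclic subgroups are normalized by the centralizers of their nontrivial elements:
the squares of the elements of order four are central.
-/

set_option autoImplicit false
set_option linter.unusedSectionVars false
set_option linter.style.haveILetI false

namespace Cfsg.Lib.TICyclic

open Subgroup

universe u

variable {G : Type u} [Group G]

/-- For 2-elements: an element centralizing a nontrivial power of `x` normalizes `⟨x⟩`. -/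
def NormTwo (G : Type u) [Group G] : Prop :=
  ∀ x u g : G, (∃ k, orderOf x = 2 ^ k) → u ∈ zpowers x → u ≠ 1 → g * u * g⁻¹ = u → g * x * g⁻¹ ∈ zpowers x

/-- An element of order four. -/
def Quad (d : G) : Prop := d * d ≠ 1 ∧ d * d * (d * d) = 1

theorem Quad.order {d : G} (hd : Quad d) : orderOf d = 2 ^ (1 + 1) := by
  haveI : Fact (Nat.Prime 2) := ⟨Nat.prime_two⟩
  refine orderOf_eq_prime_pow ?_ ?_
  · rw [pow_one, pow_two]; exact hd.1
  · rw [show 2 ^ (1 + 1) = 2 + 2 from rfl, pow_add, pow_two]; exact hd.2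

theorem Quad.ne_inv {d : G} (hd : Quad d) : d⁻¹ ≠ d := fun e => hd.1 (mul_eq_one_iff_eq_inv.2 e.symm)

theorem Quad.inv {d : G} (hd : Quad d) : d⁻¹ * d⁻¹ = d * d := by
  rw [← mul_inv_rev, inv_eq_iff_mul_eq_one]; exact hd.2

theorem Quad.conj {d : G} (hd : Quad d) (g : G) : Quad (g * d * g⁻¹) := by
  have e : g * d * g⁻¹ * (g * d * g⁻¹) = g * (d * d) * g⁻¹ := by group
  refine ⟨fun h => hd.1 ?_, ?_⟩
  · rw [e] at h; simpa using h
  · rw [e, show g * (d * d) * g⁻¹ * (g * (d * d) * g⁻¹) = g * (d * d * (d * d)) * g⁻¹ by group, hd.2]; group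

theorem quad_mul {a b : G} (ha : Quad a) (hb : Quad b) (hc : Commute a b) (hne : a * a ≠ b * b) :
    Quad (a * b) ∧ a * b * (a * b) = a * a * (b * b) := by
  have e : a * b * (a * b) = a * a * (b * b) := hc.symm.mul_mul_mul_comm a b
  refine ⟨⟨fun h => hne ?_, ?_⟩, e⟩
  · rw [e] at h
    exact (eq_inv_of_mul_eq_one_left h).trans (inv_eq_of_mul_eq_one_right hb.2)
  · rw [e, ((hc.mul_left hc).mul_right (hc.mul_left hc)).symm.mul_mul_mul_comm, ha.2, hb.2, mul_one]

/-- Conjugation by an element centralizing the square. -/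
theorem quad_conj (h : NormTwo G) {d g : G} (hd : Quad d) (hg : Commute g (d * d)) :
    g * d * g⁻¹ = d ∨ g * d * g⁻¹ = d⁻¹ := by
  obtain ⟨k, hk⟩ := mem_zpowers_iff.1 (h d (d * d) g ⟨_, hd.order⟩ (mul_mem (mem_zpowers d) (mem_zpowers d)) hd.1
    (by rw [hg.eq, mul_inv_cancel_right]))
  have h4 : d ^ (4 : ℤ) = 1 := by
    rw [show (4 : ℤ) = 2 + 2 from rfl, zpow_add, zpow_two]; exact hd.2
  rw [← hk]
  obtain ⟨j, r⟩ : ∃ j : ℤ, k = 4 * j ∨ k = 4 * j + 1 ∨ k = 4 * j + 2 ∨ k = 4 * j + 3 := ⟨k / 4, by omega⟩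
  have hsq : (d ^ k) * (d ^ k) = d * d := by
    rw [hk, show g * d * g⁻¹ * (g * d * g⁻¹) = g * (d * d) * g⁻¹ by group, hg.eq, mul_inv_cancel_right]
  rcases r with rfl | rfl | rfl | rfl
  · exact absurd (by simpa [zpow_mul, h4] using hsq.symm) hd.1
  · exact Or.inl (by simp [zpow_add, zpow_mul, h4])
  · exfalso
    apply hd.1
    rw [← hsq, zpow_add, zpow_mul, h4, one_zpow, one_mul, zpow_two, hd.2]
  · refine Or.inr (eq_inv_of_mul_eq_one_left ?_)
    rw [← zpow_add_one, show 4 * j + 3 + 1 = 4 * (j + 1) by ring, zpow_mul, h4, one_zpow]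

/-- Two elements of order four, each centralizing the square of the other, with distinct squares, commute. -/
theorem quad_comm (h : NormTwo G) {a b : G} (ha : Quad a) (hb : Quad b) (hab : Commute a (b * b))
    (hba : Commute b (a * a)) (hne : a * a ≠ b * b) : Commute a b := by
  rcases quad_conj h ha hba with e | e
  · exact (mul_inv_eq_iff_eq_mul.1 e).symm
  exfalso
  have e2 : a * b * a⁻¹ = a * a * b := by
    have : b * a⁻¹ * b⁻¹ = a := by rw [← conj_inv, e, inv_inv]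
    rw [show a * b * a⁻¹ = a * (b * a⁻¹ * b⁻¹) * b by group, this]
  rcases quad_conj h hb hab with e' | e' <;> rw [e2] at e'
  · exact ha.1 (mul_eq_right.1 e')
  · refine hne (((eq_mul_inv_of_mul_eq e').trans ?_).trans hb.inv)
    group

/-- An element of order at least four has a power of order four. -/
theorem exists_quad {x : G} (hx : ∃ k, orderOf x = 2 ^ k) (h2 : x * x ≠ 1) : ∃ i : ℕ, Quad (x ^ i) := by
  obtain ⟨k, hk⟩ := hx
  obtain ⟨j, rfl⟩ : ∃ j, k = j + 2 := by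
    refine ⟨k - 2, ?_⟩
    by_contra hh
    refine h2 ?_
    rw [← pow_two]
    exact orderOf_dvd_iff_pow_eq_one.1 (hk ▸ (show 2 ^ k ∣ 2 ^ 1 from pow_dvd_pow 2 (by omega)))
  refine ⟨2 ^ j, fun e => ?_, ?_⟩
  · rw [← pow_add, ← orderOf_dvd_iff_pow_eq_one, hk, ← two_mul, ← pow_succ', Nat.pow_dvd_pow_iff_le_right (by norm_num : 1 < 2)] at e
    omega
  · simp only [← pow_add]
    rw [← orderOf_dvd_iff_pow_eq_one, hk]
    exact dvd_of_eq (by ring)

/-- A cyclic group has at most one involution. -/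
theorem invol_unique [Finite G] {x a b : G} (ha : a ∈ zpowers x) (hb : b ∈ zpowers x) (ha2 : a * a = 1)
    (ha1 : a ≠ 1) (hb2 : b * b = 1) (hb1 : b ≠ 1) : a = b := by
  obtain ⟨i, rfl⟩ := mem_zpowers_iff.1 ha
  obtain ⟨j, rfl⟩ := mem_zpowers_iff.1 hb
  rw [← zpow_add, ← orderOf_dvd_iff_zpow_eq_one] at ha2 hb2
  rw [Ne, ← orderOf_dvd_iff_zpow_eq_one] at ha1 hb1
  obtain ⟨p, hp⟩ := ha2
  obtain ⟨q, hq⟩ := hb2
  obtain ⟨p', rfl⟩ : ∃ p', p = 2 * p' + 1 := by
    rcases Int.even_or_odd' p with ⟨p', rfl | rfl⟩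
    · exact absurd ⟨p', by linarith⟩ ha1
    · exact ⟨p', rfl⟩
  obtain ⟨q', rfl⟩ : ∃ q', q = 2 * q' + 1 := by
    rcases Int.even_or_odd' q with ⟨q', rfl | rfl⟩
    · exact absurd ⟨q', by linarith⟩ hb1
    · exact ⟨q', rfl⟩
  rw [← mul_inv_eq_one, ← zpow_neg, ← zpow_add, ← orderOf_dvd_iff_zpow_eq_one]
  exact ⟨p' - q', by linarith⟩

theorem two_pow_of_mem [Finite G] {S : Subgroup G} (hS : IsPGroup 2 S) {x : G} (hx : x ∈ S) :
    ∃ k, orderOf x = 2 ^ k := by
  haveI : Fact (Nat.Prime 2) := ⟨Nat.prime_two⟩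
  obtain ⟨k, hk⟩ := IsPGroup.iff_orderOf.1 hS ⟨x, hx⟩
  exact ⟨k, by rwa [Subgroup.orderOf_mk] at hk⟩

/-- An element outside a proper subgroup of a 2-group, normalizing it, with square inside. -/
theorem exists_step [Finite G] {S T : Subgroup G} (hS : IsPGroup 2 S) (hTS : T < S) :
    ∃ g ∈ S, g ∉ T ∧ (∀ t ∈ T, g * t * g⁻¹ ∈ T) ∧ g * g ∈ T := by
  classical
  haveI : Fact (Nat.Prime 2) := ⟨Nat.prime_two⟩
  haveI : Group.IsNilpotent S := hS.isNilpotent
  have hlt : T.subgroupOf S < ⊤ := lt_top_iff_ne_top.2 fun e => hTS.not_ge (subgroupOf_eq_top.1 e)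
  obtain ⟨a, ha, haT⟩ := SetLike.exists_of_lt (normalizerCondition_of_isNilpotent _ hlt)
  obtain ⟨k, hk⟩ := IsPGroup.iff_orderOf.1 hS a
  have hex : ∃ j, a ^ 2 ^ j ∈ T.subgroupOf S := ⟨k, by rw [← hk, pow_orderOf_eq_one]; exact one_mem _⟩
  obtain ⟨j, hj⟩ : ∃ j, Nat.find hex = j + 1 := ⟨Nat.find hex - 1, by
    have : Nat.find hex ≠ 0 := fun e => haT (by simpa [e] using Nat.find_spec hex)
    omega⟩
  set g := a ^ 2 ^ j
  refine ⟨g, g.2, fun h => Nat.find_min hex (show j < Nat.find hex by omega) (mem_subgroupOf.2 h), fun t ht => ?_,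
    mem_subgroupOf.1 (show g * g ∈ T.subgroupOf S by
      rw [← pow_add, ← two_mul, ← pow_succ', ← hj]; exact Nat.find_spec hex)⟩
  exact mem_subgroupOf.1 ((mem_normalizer_iff.1 (pow_mem ha _) ⟨t, hTS.le ht⟩).1 (mem_subgroupOf.2 ht))

variable [Finite G]

/-- The squares of the elements of order four of a 2-subgroup are central in it. -/
theorem sq_central (h : NormTwo G) {S : Subgroup G} (hS : IsPGroup 2 S) {d₀ : G} (hd₀ : d₀ ∈ S)
    (hq₀ : Quad d₀) {g₀ : G} (hg₀ : g₀ ∈ S) : Commute g₀ (d₀ * d₀) := by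
  classical
  by_contra hbad
  let Bad := {d : G // d ∈ S ∧ Quad d ∧ ∃ g ∈ S, ¬ Commute g (d * d)}
  haveI : Nonempty Bad := ⟨⟨d₀, hd₀, hq₀, g₀, hg₀, hbad⟩⟩
  obtain ⟨⟨r, hr, hrq, b, hb, hbr⟩, hmax⟩ :=
    Finite.exists_max fun d : Bad => Nat.card ↥(S ⊓ centralizer ({d.1 * d.1} : Set G))
  set v := r * r with hv
  set T := S ⊓ centralizer ({v} : Set G) with hT
  have hTmem : ∀ {x}, x ∈ T ↔ x ∈ S ∧ Commute x v := by
    intro x
    rw [hT, mem_inf, mem_centralizer_singleton_iff]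
    rfl
  obtain ⟨g, hg, hgT, hgn, hg2⟩ := exists_step hS (T := T)
    (lt_of_le_of_ne inf_le_left fun e => hbr (hTmem.1 (e ▸ hb)).2)
  -- the conjugate root
  set r' := g * r * g⁻¹ with hr'
  set v' := g * v * g⁻¹ with hv'
  have hr'sq : r' * r' = v' := by simp only [hr', hv', hv]; group
  have hne : v ≠ v' := fun e => hgT (hTmem.2 ⟨hg, (mul_inv_eq_iff_eq_mul.1 e.symm)⟩)
  have hrT : r ∈ T := hTmem.2 ⟨hr, (Commute.refl r).mul_right (Commute.refl r)⟩
  have hcen : ∀ t ∈ T, Commute t v' := fun t ht => by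
    have ht' : g⁻¹ * t * g ∈ T := by
      have e' : g⁻¹ * t * g = (g * g)⁻¹ * (g * t * g⁻¹) * (g * g) := by group
      rw [e']
      exact mul_mem (mul_mem (inv_mem hg2) (hgn t ht)) hg2
    have h1 := ((hTmem.1 ht').2).map (MulAut.conj g).toMonoidHom
    simp only [MulEquiv.coe_toMonoidHom, MulAut.conj_apply, show g * (g⁻¹ * t * g) * g⁻¹ = t by group] at h1
    exact h1
  have hr'T : r' ∈ T := hgn r hrT
  have hr'q : Quad r' := hrq.conj g
  have hrr : Commute r r' := quad_comm h hrq hr'q (by rw [hr'sq]; exact hcen r hrT) (hTmem.1 hr'T).2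
    (by rw [hr'sq]; exact hne)
  obtain ⟨hcq, hcsq⟩ := quad_mul hrq hr'q hrr (by rw [hr'sq]; exact hne)
  rw [hr'sq, ← hv] at hcsq
  set c := v * v' with hc
  have hvv : Commute v v' := hcen v (hTmem.2 ⟨mul_mem hr hr, Commute.refl v⟩)
  have hgv' : g * v' * g⁻¹ = v := by
    rw [show g * v' * g⁻¹ = (g * g) * v * (g * g)⁻¹ by rw [hv']; group, (hTmem.1 hg2).2.eq, mul_inv_cancel_right]
  have hgc : Commute g c := by
    refine mul_inv_eq_iff_eq_mul.1 ?_
    rw [hc, show g * (v * v') * g⁻¹ = g * v * g⁻¹ * (g * v' * g⁻¹) by group, hgv', ← hv', hvv.eq]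
  -- the product of the two squares is central
  have hcC : ∀ x ∈ S, Commute x c := by
    intro x hx
    by_contra hxc
    have h1 := hmax ⟨r * r', mul_mem hr (hTmem.1 hr'T).1, hcq, x, hx, by rwa [hcsq]⟩
    simp only [hcsq] at h1
    refine absurd h1 (not_le.2 ?_)
    refine lt_of_le_of_ne (card_le_of_le fun t ht => ?_) fun e => hgT ?_
    · exact mem_inf.2 ⟨(hTmem.1 ht).1, mem_centralizer_singleton_iff.2 ((hTmem.1 ht).2.mul_right (hcen t ht)).eq⟩
    · have hle : T ≤ S ⊓ centralizer ({c} : Set G) := fun t ht =>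
        mem_inf.2 ⟨(hTmem.1 ht).1, mem_centralizer_singleton_iff.2 ((hTmem.1 ht).2.mul_right (hcen t ht)).eq⟩
      rw [Subgroup.eq_of_le_of_card_ge hle e.ge]
      exact mem_inf.2 ⟨hg, mem_centralizer_singleton_iff.2 hgc.eq⟩
  -- an element of order at least four outside the centralizer
  obtain ⟨s, hs, hsr, hs2, hs4⟩ : ∃ s ∈ S, s * r * s⁻¹ = r' ∧ s * s ∈ T ∧ s * s ≠ 1 := by
    by_cases hg1 : g * g = 1
    · have e : g * r * (g * r) = r' * r := by
        rw [hr']
        have : g⁻¹ = g := inv_eq_of_mul_eq_one_right hg1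
        rw [this]; group
      refine ⟨g * r, mul_mem hg hr, by rw [hr']; group, by rw [e]; exact mul_mem hr'T hrT, fun e' => ?_⟩
      rw [e] at e'
      refine hne ?_
      rw [← hr'sq, hv, eq_inv_of_mul_eq_one_left e', hrq.inv]
    · exact ⟨g, hg, rfl, hg2, hg1⟩
  have hsv : s * v * s⁻¹ = v' := by
    rw [hv, show s * (r * r) * s⁻¹ = s * r * s⁻¹ * (s * r * s⁻¹) by group, hsr, hr'sq]
  obtain ⟨i, hi⟩ := exists_quad (two_pow_of_mem hS hs) hs4
  set w := s ^ i * s ^ i with hw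
  have hwT : w ∈ T := by
    rw [hw, ← pow_add, ← two_mul, pow_mul, pow_two]
    exact pow_mem hs2 i
  have hws : w ∈ zpowers s := mul_mem (pow_mem (mem_zpowers s) i) (pow_mem (mem_zpowers s) i)
  have hvs : v * s * v⁻¹ ∈ zpowers s := h s w v (two_pow_of_mem hS hs) hws hi.1
    (by rw [(hTmem.1 hwT).2.symm.eq, mul_inv_cancel_right])
  have hcs : c ∈ zpowers s := by
    have e : c = v * s * v⁻¹ * s⁻¹ := by
      rw [hc, ← hsv]
      have : v⁻¹ = v := inv_eq_of_mul_eq_one_right hrq.2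
      rw [this]; group
    rw [e]
    exact mul_mem hvs (inv_mem (mem_zpowers s))
  have hc2 : c * c = 1 := by rw [← hcsq]; exact hcq.2
  have hc1 : c ≠ 1 := by rw [← hcsq]; exact hcq.1
  have hwc : w = c := invol_unique hws hcs hi.2 hi.1 hc2 hc1
  -- the root normalizes the cyclic group
  have hrs : r * s * r⁻¹ ∈ zpowers s := h s w r (two_pow_of_mem hS hs) hws hi.1
    (by rw [hwc, (hcC r hr).eq, mul_inv_cancel_right])
  have hk : r * r'⁻¹ ∈ zpowers s := by
    have : r * r'⁻¹ = r * s * r⁻¹ * s⁻¹ := by rw [← hsr]; group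
    rw [this]
    exact mul_mem hrs (inv_mem (mem_zpowers s))
  obtain ⟨k, hk⟩ := mem_zpowers_iff.1 hk
  have hfix : s * (r * r'⁻¹) * s⁻¹ = r * r'⁻¹ := by
    rw [← hk, ((Commute.refl s).zpow_right k).eq, mul_inv_cancel_right]
  have hfix' : r' * (s * s * r * (s * s)⁻¹)⁻¹ = r * r'⁻¹ := by
    rw [← hfix, ← hsr]; group
  rcases quad_conj h hrq (hTmem.1 hs2).2 with e | e <;> rw [e] at hfix'
  · have h1 : r' * r' = r * r := by
      have h2 := congrArg (fun z => z * r) hfix'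
      simp only [inv_mul_cancel_right] at h2
      calc r' * r' = r * r'⁻¹ * r * r' := by rw [← h2]
        _ = r * r := by rw [mul_assoc (r * r'⁻¹) r r', hrr.eq]; group
    exact hne (by rw [← hr'sq, h1])
  · rw [inv_inv, ← hrr.eq] at hfix'
    refine hr'q.ne_inv ?_
    exact mul_left_cancel hfix'.symm

/-- Cyclic subgroups of order at least four of a 2-subgroup are normal in it. -/
theorem conj_mem (h : NormTwo G) {S : Subgroup G} (hS : IsPGroup 2 S) {x g : G} (hx : x ∈ S) (hx2 : x * x ≠ 1)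
    (hg : g ∈ S) : g * x * g⁻¹ ∈ zpowers x := by
  obtain ⟨i, hi⟩ := exists_quad (two_pow_of_mem hS hx) hx2
  exact h x _ g (two_pow_of_mem hS hx) (mul_mem (pow_mem (mem_zpowers x) i) (pow_mem (mem_zpowers x) i)) hi.1
    (by rw [(sq_central h hS (pow_mem hx i) hi hg).eq, mul_inv_cancel_right])

/-- An element of a 2-subgroup acts on an element of order four by a sign. -/
theorem sign (h : NormTwo G) {S : Subgroup G} (hS : IsPGroup 2 S) {d g : G} (hd : d ∈ S) (hq : Quad d)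
    (hg : g ∈ S) : g * d * g⁻¹ = d ∨ g * d * g⁻¹ = d⁻¹ :=
  quad_conj h hq (sq_central h hS hd hq hg)

end Cfsg.Lib.TICyclic
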