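import Cfsg.Agent.TICyclic.Fwd.Shape

/-!
Conjugation of the maximal elementary subgroups of a Sylow 2-subgroup with an inverted abelian subgroup of index
two.
-/

set_option autoImplicit false
set_option linter.unusedSectionVars false
set_option linter.style.haveILetI false

namespace Cfsg.Lib.TICyclic

open Subgroup
open scoped Pointwise

universe u

variable {G : Type u} [Group G] [Finite G]

/-- A 2-subgroup of the centralizer of `c` moves into a Sylow 2-subgroup lying in that centralizer. -/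
theorem exists_conj_le (S : Sylow 2 G) {c : G} (hcS : ∀ x ∈ S, Commute x c) {Q : Subgroup G}
    (hQ : IsPGroup 2 Q) (hQc : ∀ x ∈ Q, Commute x c) : ∃ k, Commute k c ∧ ∀ x ∈ Q, k * x * k⁻¹ ∈ S := by
  haveI : Fact (Nat.Prime 2) := ⟨Nat.prime_two⟩
  set C := centralizer ({c} : Set G) with hC
  have hSC : (S : Subgroup G) ≤ C := fun x hx => mem_centralizer_singleton_iff.2 (hcS x hx).eq
  have hQC : Q ≤ C := fun x hx => mem_centralizer_singleton_iff.2 (hQc x hx).eq
  obtain ⟨R, hR⟩ := (hQ.of_equiv (subgroupOfEquivOfLe hQC).symm).exists_le_sylow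
  obtain ⟨k, hk⟩ := MulAction.exists_smul_eq ↥C R (S.subtype hSC)
  refine ⟨k, mem_centralizer_singleton_iff.1 k.2, fun x hx => ?_⟩
  have h1 : MulAut.conj k • (⟨x, hQC hx⟩ : ↥C) ∈ k • R := by
    exact Subgroup.smul_mem_pointwise_smul _ (MulAut.conj k) (R : Subgroup ↥C) (hR hx)
  rw [hk] at h1
  exact h1

/-- A 2-subgroup moves into a given Sylow 2-subgroup. -/
theorem exists_conj_le' (S : Sylow 2 G) {Q : Subgroup G} (hQ : IsPGroup 2 Q) :
    ∃ k : G, ∀ x ∈ Q, k * x * k⁻¹ ∈ S := by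
  obtain ⟨k, -, hk⟩ := exists_conj_le S (c := 1) (fun x _ => Commute.one_right x) hQ fun x _ => Commute.one_right x
  exact ⟨k, hk⟩

variable {S : Sylow 2 G} {A : Subgroup G} (P : Split (S : Subgroup G) A)
include P

/-- The involutions of `A`, with the identity. -/
def Split.invol : Subgroup G where
  carrier := {a | a ∈ A ∧ a * a = 1}
  mul_mem' {a b} ha hb := ⟨mul_mem ha.1 hb.1, by rw [(P.comm hb.1 ha.1).mul_mul_mul_comm, ha.2, hb.2, one_mul]⟩
  one_mem' := ⟨one_mem _, one_mul 1⟩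
  inv_mem' {a} ha := ⟨inv_mem ha.1, by rw [inv_eq_of_mul_eq_one_right ha.2]; exact ha.2⟩

theorem Split.mem_invol {a : G} : a ∈ P.invol ↔ a ∈ A ∧ a * a = 1 := Iff.rfl

theorem Split.invol_cen {a x : G} (ha : a ∈ P.invol) (hx : x ∈ S) : Commute x a :=
  P.invol_central ha.1 ha.2 hx

omit P in
/-- The centralizer in `S`. -/
def cenS (S : Sylow 2 G) (e : G) : Subgroup G := (S : Subgroup G) ⊓ centralizer ({e} : Set G)

omit P in
theorem mem_cenS {e x : G} : x ∈ cenS S e ↔ x ∈ S ∧ Commute x e := by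
  rw [cenS, mem_inf, mem_centralizer_singleton_iff]
  rfl

theorem Split.cenS_cases {e : G} (he : e ∈ S) (heA : e ∉ A) {x : G} :
    x ∈ cenS S e ↔ x ∈ P.invol ∨ x * e ∈ P.invol := by
  rw [mem_cenS]
  constructor
  · rintro ⟨hx, hxe⟩
    by_cases hxA : x ∈ A
    · refine Or.inl ⟨hxA, ?_⟩
      have h := P.conj he heA hxA
      rw [hxe.symm.eq, mul_inv_cancel_right] at h
      exact mul_eq_one_iff_eq_inv.2 h
    · refine Or.inr ⟨P.mul x hx e he hxA heA, ?_⟩
      rw [hxe.symm.mul_mul_mul_comm, P.out x hx hxA, P.out e he heA, one_mul]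
  · rintro (h | h)
    · exact ⟨P.le h.1, (P.invol_cen h he).symm⟩
    · have h1 : x = x * e * e⁻¹ := (mul_inv_cancel_right x e).symm
      rw [h1]
      exact ⟨mul_mem (P.le h.1) (inv_mem he), (P.invol_cen h he).symm.mul_left (Commute.refl e).inv_left⟩

theorem Split.cenS_sq {e x : G} (he : e ∈ S) (heA : e ∉ A) (hx : x ∈ cenS S e) : x * x = 1 := by
  have hxe := (mem_cenS.1 hx).2
  rcases (P.cenS_cases he heA).1 hx with h | h
  · exact h.2
  · have h2 := h.2
    rwa [hxe.symm.mul_mul_mul_comm, P.out e he heA, mul_one] at h2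

theorem Split.cenS_comm {e x y : G} (he : e ∈ S) (heA : e ∉ A) (hx : x ∈ cenS S e) (hy : y ∈ cenS S e) :
    Commute x y := by
  have h := P.cenS_sq he heA (mul_mem hx hy)
  have hx' := inv_eq_of_mul_eq_one_right (P.cenS_sq he heA hx)
  have hy' := inv_eq_of_mul_eq_one_right (P.cenS_sq he heA hy)
  show x * y = y * x
  rw [← inv_eq_of_mul_eq_one_right h, mul_inv_rev, hx', hy']

theorem Split.card_cenS {e : G} (he : e ∈ S) (heA : e ∉ A) :
    Nat.card ↥(cenS S e) = 2 * Nat.card ↥P.invol := by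
  have hle : P.invol ≤ cenS S e := fun x hx => (P.cenS_cases he heA).2 (Or.inl hx)
  rw [← (P.invol.subgroupOf (cenS S e)).card_mul_index, Nat.card_congr (subgroupOfEquivOfLe hle).toEquiv, mul_comm]
  congr 1
  rw [Subgroup.index_eq_two_iff]
  refine ⟨⟨e, mem_cenS.2 ⟨he, Commute.refl e⟩⟩, fun b => ?_⟩
  simp only [mem_subgroupOf, Subgroup.coe_mul]
  rcases (P.cenS_cases he heA).1 b.2 with h | h
  · exact Or.inr ⟨h, fun h' => heA (by simpa using mul_mem (inv_mem h.1) h'.1)⟩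
  · exact Or.inl ⟨h, fun h' => heA (by simpa using mul_mem (inv_mem h'.1) h.1)⟩

/-- The elementary subgroups of that order are centralizers. -/
theorem Split.exists_cenS {Q : Subgroup G} (hQS : ∀ x ∈ Q, x ∈ S) (hsq : ∀ x ∈ Q, x * x = 1)
    (hc : Nat.card ↥Q = 2 * Nat.card ↥P.invol) : ∃ w ∈ S, w ∉ A ∧ Q = cenS S w := by
  obtain ⟨w, hwQ, hw⟩ : ∃ w ∈ Q, w ∉ A := by
    by_contra! h
    have h1 := card_le_of_le (show Q ≤ P.invol from fun x hx => ⟨h x hx, hsq x hx⟩)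
    have : 0 < Nat.card ↥P.invol := Nat.card_pos
    omega
  refine ⟨w, hQS w hwQ, hw, Subgroup.eq_of_le_of_card_ge (fun x hx => mem_cenS.2 ⟨hQS x hx, ?_⟩) ?_⟩
  · have h := hsq _ (mul_mem hx hwQ)
    have hx' := inv_eq_of_mul_eq_one_right (hsq x hx)
    have hw' := inv_eq_of_mul_eq_one_right (hsq w hwQ)
    show x * w = w * x
    rw [← inv_eq_of_mul_eq_one_right h, mul_inv_rev, hx', hw']
  · rw [P.card_cenS (hQS w hwQ) hw, hc]

/-- Conjugating into a central element. -/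
theorem Split.exists_move {e g : G} (he : e ∈ S) (heA : e ∉ A) (hc : ∀ x ∈ S, Commute x (g * e * g⁻¹)) :
    ∃ h w : G, h * e * h⁻¹ = g * e * g⁻¹ ∧ w ∈ S ∧ w ∉ A ∧ (∀ x ∈ cenS S e, h * x * h⁻¹ ∈ cenS S w) ∧
      ∀ y ∈ cenS S w, h⁻¹ * y * h ∈ cenS S e := by
  set Q := (cenS S e).map (MulAut.conj g).toMonoidHom with hQdef
  have hQ : IsPGroup 2 Q := (S.2.to_le (inf_le_left : cenS S e ≤ S)).map _
  obtain ⟨k, hk, hkS⟩ := exists_conj_le S hc hQ (by
    rintro _ ⟨x, hx, rfl⟩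
    exact ((mem_cenS.1 hx).2).map (MulAut.conj g).toMonoidHom)
  set h := k * g with hh
  have hconj : ∀ x, h * x * h⁻¹ = k * (g * x * g⁻¹) * k⁻¹ := fun x => by rw [hh]; group
  set R := (cenS S e).map (MulAut.conj h).toMonoidHom with hR
  obtain ⟨w, hw, hwA, hRw⟩ := P.exists_cenS (Q := R)
    (by
      rintro _ ⟨x, hx, rfl⟩
      show h * x * h⁻¹ ∈ S
      rw [hconj]
      exact hkS _ ⟨x, hx, rfl⟩)
    (by
      rintro _ ⟨x, hx, rfl⟩
      rw [← map_mul, P.cenS_sq he heA hx, map_one])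
    (by rw [hR, card_map_of_injective (MulAut.conj h).injective, P.card_cenS he heA])
  refine ⟨h, w, ?_, hw, hwA, fun x hx => hRw ▸ ⟨x, hx, rfl⟩, fun y hy => ?_⟩
  · rw [hconj, hk.eq, mul_inv_cancel_right]
  · rw [← hRw] at hy
    obtain ⟨x, hx, rfl⟩ := hy
    show h⁻¹ * (h * x * h⁻¹) * h ∈ _
    rwa [show h⁻¹ * (h * x * h⁻¹) * h = x by group]

/-- An element of order four acts on these subgroups as a transvection. -/
theorem Split.quad_act (hd : G) (hdA : hd ∈ A) {w f : G} (hw : w ∈ S) (hwA : w ∉ A) (hf : f ∈ cenS S w) :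
    (f ∈ A → hd * f * hd⁻¹ = f) ∧ (f ∉ A → hd * f * hd⁻¹ = hd * hd * f) := by
  refine ⟨fun hfA => ?_, fun hfA => ?_⟩
  · rw [(P.comm hdA hfA).eq, mul_inv_cancel_right]
  · have h := P.conj (mem_cenS.1 hf).1 hfA hdA
    have h' : f * hd⁻¹ * f⁻¹ = hd := by rw [← conj_inv, h, inv_inv]
    calc hd * f * hd⁻¹ = hd * (f * hd⁻¹ * f⁻¹) * f := by group
      _ = hd * hd * f := by rw [h']

end Cfsg.Lib.TICyclic
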