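import Cfsg.Agent.TICyclic.Fwd.Basic

/-!
A 2-subgroup in which all elements act on the elements of order four by the same signs is abelian or has an
abelian subgroup of index two inverted by all elements outside it.
-/

set_option autoImplicit false
set_option linter.unusedSectionVars false
set_option linter.style.haveILetI false

namespace Cfsg.Lib.TICyclic

open Subgroup

universe u

variable {G : Type u} [Group G]

/-- `A` has index two in `S` and the elements outside are involutions. -/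
structure Split (S A : Subgroup G) : Prop where
  le : A ≤ S
  ne : ∃ u ∈ S, u ∉ A
  out : ∀ x ∈ S, x ∉ A → x * x = 1
  mul : ∀ x ∈ S, ∀ y ∈ S, x ∉ A → y ∉ A → x * y ∈ A

/-- The elements act on the elements of order four of `S` by uniform signs. -/
def Uniform (S : Subgroup G) : Prop :=
  ∀ g ∈ S, ∀ a ∈ S, Quad a → ∀ b ∈ S, Quad b → g * a * g⁻¹ = a → g * b * g⁻¹ = b

namespace Split

variable {S A : Subgroup G} (P : Split S A)
include P

theorem inv_eq {x : G} (hx : x ∈ S) (hxA : x ∉ A) : x⁻¹ = x := inv_eq_of_mul_eq_one_right (P.out x hx hxA)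

theorem conj {x a : G} (hx : x ∈ S) (hxA : x ∉ A) (ha : a ∈ A) : x * a * x⁻¹ = a⁻¹ := by
  have h1 : x * a * (x * a) = 1 :=
    P.out _ (mul_mem hx (P.le ha)) fun h => hxA (by simpa using mul_mem h (inv_mem ha))
  rw [P.inv_eq hx hxA]
  exact eq_inv_of_mul_eq_one_left (by rw [mul_assoc]; exact h1)

theorem comm {a b : G} (ha : a ∈ A) (hb : b ∈ A) : Commute a b := by
  obtain ⟨x, hx, hxA⟩ := P.ne
  have h := P.conj hx hxA (mul_mem ha hb)
  rw [show x * (a * b) * x⁻¹ = x * a * x⁻¹ * (x * b * x⁻¹) by group, P.conj hx hxA ha, P.conj hx hxA hb,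
    ← mul_inv_rev] at h
  exact (inv_injective h).symm

theorem invol_central {a x : G} (ha : a ∈ A) (ha2 : a * a = 1) (hx : x ∈ S) : Commute x a := by
  by_cases hxA : x ∈ A
  · exact P.comm hxA ha
  · exact (mul_inv_eq_iff_eq_mul.1 ((P.conj hx hxA ha).trans (inv_eq_of_mul_eq_one_right ha2)))

theorem quad_mem {d : G} (hd : d ∈ S) (hq : Quad d) : d ∈ A := by
  by_contra h
  exact hq.1 (P.out d hd h)

theorem sq_mem {x : G} (hx : x ∈ S) : x * x ∈ A := by
  by_cases hxA : x ∈ A
  · exact mul_mem hxA hxA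
  · exact P.mul x hx x hx hxA hxA

theorem relIndex : A.relIndex S = 2 := by
  obtain ⟨u, hu, huA⟩ := P.ne
  rw [Subgroup.relIndex, Subgroup.index_eq_two_iff]
  refine ⟨⟨u, hu⟩, fun b => ?_⟩
  simp only [mem_subgroupOf, Subgroup.coe_mul]
  by_cases hb : (b : G) ∈ A
  · exact Or.inr ⟨hb, fun h => huA (by simpa using mul_mem (inv_mem hb) h)⟩
  · exact Or.inl ⟨P.mul b b.2 u hu hb huA, hb⟩

end Split

variable [Finite G]

/-- If the elements of order four are central, the subgroup is abelian. -/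
theorem comm_of_central (h : NormTwo G) {S : Subgroup G} (hS : IsPGroup 2 S) (hex : ∃ d ∈ S, Quad d)
    (hcen : ∀ d ∈ S, Quad d → ∀ g ∈ S, Commute g d) : ∀ a ∈ S, ∀ b ∈ S, Commute a b := by
  obtain ⟨d, hd, hdq⟩ := hex
  have hinv : ∀ e ∈ S, e * e = 1 → ∀ g ∈ S, Commute g e := by
    intro e he he2 g hg
    have hde : Commute e d := hcen d hd hdq e he
    have hq : Quad (e * d) := by
      have : e * d * (e * d) = d * d := by rw [hde.symm.mul_mul_mul_comm, he2, one_mul]
      exact ⟨this ▸ hdq.1, by rw [this]; exact hdq.2⟩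
    have h1 := (hcen _ (mul_mem he hd) hq g hg).mul_right (hcen d hd hdq g hg).inv_right
    rwa [mul_inv_cancel_right] at h1
  suffices H : ∀ a, ∀ f ∈ S, orderOf f = 2 ^ a → ∀ s ∈ S, Commute f s by
    intro x hx y hy
    obtain ⟨k, hk⟩ := two_pow_of_mem hS hx
    exact H k x hx hk y hy
  intro a
  induction a using Nat.strong_induction_on with
  | _ a ih =>
  intro f hf hfo s hs
  by_contra hns
  have hlow : ∀ x ∈ S, ∀ n, n < a → x ^ 2 ^ n = 1 → ∀ y ∈ S, Commute x y := by
    intro x hx n hn hx1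
    obtain ⟨i, hi, hi'⟩ := (Nat.dvd_prime_pow Nat.prime_two).1 (orderOf_dvd_of_pow_eq_one hx1)
    exact ih i (by omega) x hx hi'
  have hf2 : f * f ≠ 1 := fun e => hns (hinv f hf e s hs).symm
  obtain ⟨a', rfl⟩ : ∃ a', a = a' + 3 := by
    refine ⟨a - 3, ?_⟩
    by_contra hlt
    refine hns (hcen f hf ⟨hf2, ?_⟩ s hs).symm
    rw [← pow_two, ← pow_two, ← pow_mul, ← orderOf_dvd_iff_pow_eq_one, hfo]
    exact pow_dvd_pow 2 (show a ≤ 2 by omega)
  obtain ⟨b, hb⟩ := two_pow_of_mem hS hs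
  have hab : a' + 3 ≤ b := by
    by_contra hlt
    exact hns (ih b (by omega) s hs hb f hf).symm
  have hsq : s * s ≠ 1 := fun e => hns (hinv s hs e f hf)
  have hff : ∀ y ∈ S, Commute (f * f) y := hlow _ (mul_mem hf hf) (a' + 2) (by omega) (by
    rw [← pow_two, ← pow_mul, ← pow_succ', ← hfo, pow_orderOf_eq_one])
  -- the commutator
  set c := s * f * s⁻¹ * f⁻¹ with hc
  have hcf : c ∈ zpowers f := mul_mem (conj_mem h hS hf hf2 hs) (inv_mem (mem_zpowers f))
  have hcs : c ∈ zpowers s := by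
    rw [show c = s * (f * s⁻¹ * f⁻¹) by rw [hc]; group]
    refine mul_mem (mem_zpowers s) ?_
    rw [← conj_inv]
    exact inv_mem (conj_mem h hS hs hsq hf)
  have hc1 : c ≠ 1 := fun e => hns (by
    rw [hc, mul_inv_eq_one, mul_inv_eq_iff_eq_mul] at e
    exact e.symm)
  have hcfc : Commute c f := by
    obtain ⟨k, hk⟩ := mem_zpowers_iff.1 hcf
    rw [← hk]; exact (Commute.refl f).zpow_left k
  have hc2 : c * c = 1 := by
    have e : s * (f * f) * s⁻¹ = f * f := by rw [(hff s hs).symm.eq, mul_inv_cancel_right]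
    have e1 : s * f * s⁻¹ = c * f := by rw [hc, inv_mul_cancel_right]
    rw [show s * (f * f) * s⁻¹ = s * f * s⁻¹ * (s * f * s⁻¹) by group, e1, hcfc.symm.mul_mul_mul_comm] at e
    exact mul_eq_right.1 e
  have hcS : c ∈ S := mul_mem (mul_mem (mul_mem hs hf) (inv_mem hs)) (inv_mem hf)
  have hsf : s * f = c * f * s := by rw [hc]; group
  have hssf : Commute (s * s) f := by
    show s * s * f = f * (s * s)
    have hcs' := hinv c hcS hc2 s hs
    calc s * s * f = s * (c * f * s) := by rw [mul_assoc, hsf]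
      _ = c * (s * f) * s := by rw [← mul_assoc, ← mul_assoc, hcs'.eq]; group
      _ = c * c * (f * (s * s)) := by rw [hsf]; group
      _ = f * (s * s) := by rw [hc2, one_mul]
  have hff2 : f ^ 2 ^ (a' + 2) = c := by
    refine invol_unique (npow_mem_zpowers f _) hcf ?_ ?_ hc2 hc1
    · rw [← pow_add, ← two_mul, ← pow_succ', ← hfo, pow_orderOf_eq_one]
    · intro e
      have h1 := orderOf_dvd_of_pow_eq_one e
      rw [hfo, Nat.pow_dvd_pow_iff_le_right (by norm_num : 1 < 2)] at h1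
      omega
  obtain ⟨e, rfl⟩ : ∃ e, b = a' + 3 + e := ⟨b - (a' + 3), by omega⟩
  have hss2 : s ^ 2 ^ (a' + 2 + e) = c := by
    refine invol_unique (npow_mem_zpowers s _) hcs ?_ ?_ hc2 hc1
    · rw [← pow_add, ← two_mul, ← pow_succ', show a' + 2 + e + 1 = a' + 3 + e by omega, ← hb, pow_orderOf_eq_one]
    · intro e'
      have h1 := orderOf_dvd_of_pow_eq_one e'
      rw [hb, Nat.pow_dvd_pow_iff_le_right (by norm_num : 1 < 2)] at h1
      omega
  -- a product of smaller order
  have hh : (f * s ^ 2 ^ e) ^ 2 ^ (a' + 2) = 1 := by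
    rcases Nat.eq_zero_or_pos e with rfl | hepos
    · have hh2 : f * s * (f * s) = c * ((f * f) * (s * s)) := by
        calc f * s * (f * s) = f * (s * f) * s := by group
          _ = f * c * f * s * s := by rw [hsf]; group
          _ = c * ((f * f) * (s * s)) := by rw [hcfc.symm.eq]; group
      have hcm : Commute c (f * f * (s * s)) := hcfc.mul_right hcfc |>.mul_right
        ((hinv c hcS hc2 _ (mul_mem hs hs)).symm)
      simp only [pow_zero, pow_one]
      rw [show 2 ^ (a' + 2) = 2 * 2 ^ (a' + 1) by ring, pow_mul, pow_two (f * s), hh2, hcm.mul_pow,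
        (hssf.symm.mul_left hssf.symm).mul_pow, ← pow_two f, ← pow_two s, ← pow_mul, ← pow_mul, ← pow_succ',
        show a' + 1 + 1 = a' + 2 by omega, hff2]
      simp only [Nat.add_zero] at hss2
      rw [hss2, hc2, mul_one, show 2 ^ (a' + 1) = 2 * 2 ^ a' by ring, pow_mul, pow_two c, hc2, one_pow]
    · obtain ⟨e', rfl⟩ : ∃ e', e = e' + 1 := ⟨e - 1, by omega⟩
      have hcm : Commute f (s ^ 2 ^ (e' + 1)) := by
        rw [show 2 ^ (e' + 1) = 2 * 2 ^ e' by ring, pow_mul, pow_two]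
        exact hssf.symm.pow_right _
      rw [hcm.mul_pow, hff2, ← pow_mul, ← pow_add, show e' + 1 + (a' + 2) = a' + 2 + (e' + 1) by omega, hss2, hc2]
  refine hns ?_
  have h1 : Commute (f * s ^ 2 ^ e) s := hlow _ (mul_mem hf (pow_mem hs _)) (a' + 2) (by omega) hh s hs
  have h2 := h1.mul_left ((Commute.refl s).pow_left (2 ^ e)).inv_left
  rwa [mul_inv_cancel_right] at h2

/-- The shape. -/
theorem comm_or_split (h : NormTwo G) {S : Subgroup G} (hS : IsPGroup 2 S) (hex : ∃ d ∈ S, Quad d)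
    (hU : Uniform S) : (∀ a ∈ S, ∀ b ∈ S, Commute a b) ∨ ∃ A, Split S A := by
  by_cases hcen : ∀ d ∈ S, Quad d → ∀ g ∈ S, Commute g d
  · exact Or.inl (comm_of_central h hS hex hcen)
  push Not at hcen
  obtain ⟨d, hd, hq, u, hu, hud⟩ := hcen
  set A := S ⊓ centralizer ({x : G | x ∈ S ∧ Quad x} : Set G) with hA
  have hmem : ∀ {x}, x ∈ A ↔ x ∈ S ∧ x * d * x⁻¹ = d := by
    intro x
    rw [hA, mem_inf, mem_centralizer_iff]
    refine ⟨fun ⟨h1, h2⟩ => ⟨h1, by rw [← h2 d ⟨hd, hq⟩, mul_inv_cancel_right]⟩, fun ⟨h1, h2⟩ => ⟨h1, ?_⟩⟩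
    rintro b ⟨hb, hbq⟩
    exact (mul_inv_eq_iff_eq_mul.1 (hU x h1 d hd hq b hb hbq h2)).symm
  refine Or.inr ⟨A, inf_le_left, ⟨u, hu, fun hh => hud (mul_inv_eq_iff_eq_mul.1 (hmem.1 hh).2)⟩, ?_, ?_⟩
  · intro x hx hxA
    by_contra hx2
    obtain ⟨i, hi⟩ := exists_quad (two_pow_of_mem hS hx) hx2
    refine hxA (hmem.2 ⟨hx, hU x hx _ (pow_mem hx i) hi d hd hq ?_⟩)
    rw [((Commute.refl x).pow_right i).eq, mul_inv_cancel_right]
  · intro x hx y hy hxA hyA
    refine hmem.2 ⟨mul_mem hx hy, ?_⟩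
    have ex := (sign h hS hd hq hx).resolve_left fun e => hxA (hmem.2 ⟨hx, e⟩)
    have ey := (sign h hS hd hq hy).resolve_left fun e => hyA (hmem.2 ⟨hy, e⟩)
    rw [show x * y * d * (x * y)⁻¹ = x * (y * d * y⁻¹) * x⁻¹ by group, ey, ← conj_inv, ex, inv_inv]

/-- Signs are uniform on commuting elements with distinct squares. -/
theorem sign_pair (h : NormTwo G) {S : Subgroup G} (hS : IsPGroup 2 S) {a b g : G} (ha : a ∈ S) (haq : Quad a)
    (hb : b ∈ S) (hbq : Quad b) (hne : a * a ≠ b * b) (hg : g ∈ S) (e : g * a * g⁻¹ = a) : g * b * g⁻¹ = b := by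
  have hc := quad_comm h haq hbq (sq_central h hS hb hbq ha) (sq_central h hS ha haq hb) hne
  rcases sign h hS hb hbq hg with e' | e'
  · exact e'
  exfalso
  rcases sign h hS (mul_mem ha hb) (quad_mul haq hbq hc hne).1 hg with r | r <;>
    rw [show g * (a * b) * g⁻¹ = g * a * g⁻¹ * (g * b * g⁻¹) by group, e, e'] at r
  · exact hbq.ne_inv (mul_left_cancel r)
  · rw [hc.eq, mul_inv_rev] at r
    exact haq.ne_inv (mul_right_cancel r).symm

/-- With two squares the signs are uniform. -/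
theorem uniform_of_two (h : NormTwo G) {S : Subgroup G} (hS : IsPGroup 2 S) {p q : G} (hp : p ∈ S) (hpq : Quad p)
    (hq : q ∈ S) (hqq : Quad q) (hne : p * p ≠ q * q) : Uniform S := by
  intro g hg a ha haq b hb hbq e
  by_cases hab : a * a = b * b
  · obtain ⟨c, hc, hcq, hac⟩ : ∃ c ∈ S, Quad c ∧ a * a ≠ c * c := by
      by_cases h1 : a * a = p * p
      · exact ⟨q, hq, hqq, h1 ▸ hne⟩
      · exact ⟨p, hp, hpq, h1⟩
    exact sign_pair h hS hc hcq hb hbq (hab ▸ hac.symm) hg (sign_pair h hS ha haq hc hcq hac hg e)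
  · exact sign_pair h hS ha haq hb hbq hab hg e

/-- With one square and an involution inverting the elements of order four the signs are uniform. -/
theorem uniform_of_one (h : NormTwo G) {S : Subgroup G} (hS : IsPGroup 2 S)
    (hone : ∀ a ∈ S, Quad a → ∀ b ∈ S, Quad b → a * a = b * b) {v : G} (hv : v ∈ S) (hv2 : v * v = 1)
    (hinv : ∀ d ∈ S, Quad d → v * d * v⁻¹ = d⁻¹) : Uniform S := by
  have hcomm : ∀ a ∈ S, Quad a → ∀ b ∈ S, Quad b → Commute a b := by
    intro a ha haq b hb hbq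
    rcases sign h hS ha haq hb with e | e
    · exact (mul_inv_eq_iff_eq_mul.1 e).symm
    have hsq : a * b * (a * b) = b * b := by
      calc a * b * (a * b) = a * (b * a * b⁻¹) * (b * b) := by group
        _ = b * b := by rw [e, mul_inv_cancel, one_mul]
    have hq : Quad (a * b) := ⟨hsq ▸ hbq.1, by rw [hsq]; exact hbq.2⟩
    have r := hinv _ (mul_mem ha hb) hq
    rw [show v * (a * b) * v⁻¹ = v * a * v⁻¹ * (v * b * v⁻¹) by group, hinv a ha haq, hinv b hb hbq,
      ← mul_inv_rev] at r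
    exact (inv_injective r).symm
  have small : ∀ g ∈ S, g * g * (g * g) = 1 → ∀ a ∈ S, Quad a → ∀ b ∈ S, Quad b → g * a * g⁻¹ = a →
      g * b * g⁻¹ = b := by
    intro g hg hg4 a ha haq b hb hbq e
    rcases em (g * g = 1) with hg2 | hg2
    · have hga : Commute g a := mul_inv_eq_iff_eq_mul.1 e
      have hsq : g * a * (g * a) = a * a := by rw [hga.symm.mul_mul_mul_comm, hg2, one_mul]
      have h1 := hcomm _ (mul_mem hg ha) ⟨hsq ▸ haq.1, by rw [hsq]; exact haq.2⟩ b hb hbq
      have h2 := h1.mul_left (hcomm a ha haq b hb hbq).inv_left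
      rw [mul_inv_cancel_right] at h2
      exact (mul_inv_eq_iff_eq_mul.2 h2.eq)
    · exact mul_inv_eq_iff_eq_mul.2 (hcomm g hg ⟨hg2, hg4⟩ b hb hbq).eq
  intro g hg a ha haq b hb hbq e
  by_cases hg2 : g * g = 1
  · exact small g hg (by rw [hg2, one_mul]) a ha haq b hb hbq e
  set f := v * g with hf
  have hfS : f ∈ S := mul_mem hv hg
  have hfa : f * a * f⁻¹ = a⁻¹ := by
    rw [hf, show v * g * a * (v * g)⁻¹ = v * (g * a * g⁻¹) * v⁻¹ by group, e, hinv a ha haq]
  rcases sign h hS hb hbq hg with r | r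
  · exact r
  exfalso
  have hfb : f * b * f⁻¹ = b := by
    rw [hf, show v * g * b * (v * g)⁻¹ = v * (g * b * g⁻¹) * v⁻¹ by group, r, ← conj_inv, hinv b hb hbq, inv_inv]
  have hvi : v⁻¹ = v := inv_eq_of_mul_eq_one_right hv2
  obtain ⟨k, hk⟩ := mem_zpowers_iff.1 (conj_mem h hS hg hg2 hv)
  rw [hvi] at hk
  have hff : f * f = g ^ (k + 1) := by rw [zpow_add_one, hk, hf]; group
  have hff2 : f * f * (f * f) = 1 := by
    by_contra hne
    obtain ⟨i, hi⟩ := exists_quad (two_pow_of_mem hS (mul_mem hfS hfS)) hne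
    have hvc : Commute v (f * f) := by
      have h2 : Commute g (f * f) := hff ▸ (Commute.refl g).zpow_right _
      have h1 : Commute f (f * f) := (Commute.refl f).mul_right (Commute.refl f)
      have h3 := h1.mul_left h2.inv_left
      rwa [hf, mul_inv_cancel_right] at h3
    refine hi.ne_inv ((hinv _ (pow_mem (mul_mem hfS hfS) i) hi).symm.trans ?_)
    rw [(hvc.pow_right i).eq, mul_inv_cancel_right]
  exact haq.ne_inv (hfa.symm.trans (small f hfS hff2 b hb hbq a ha haq hfb))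

end Cfsg.Lib.TICyclic
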