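import Cfsg.Agent.TICyclic.Fwd.Fuse
import Cfsg.Agent.InvolCalc.CyclicNormalisers.Common
import Cfsg.Agent.S0111

/-!
A simple group in which the Sylow 2-subgroups have two squares of elements of order four and an inverted abelian
subgroup of index two does not exist.
-/

set_option autoImplicit false
set_option linter.unusedSectionVars false
set_option linter.style.haveILetI false

namespace Cfsg.Lib.TICyclic

open Subgroup

universe u

variable {G : Type u} [Group G] [Finite G]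

/-- An involution outside `A` is conjugate into `A`. -/
theorem Split.conj_into [IsSimpleGroup G] (hna : ¬ IsMulCommutative G) {S : Sylow 2 G} {A M : Subgroup G}
    (P : Split (S : Subgroup G) A) (hM : M ≤ S) (hMi : M.relIndex (S : Subgroup G) = 2) {e : G} (he : e ∈ S)
    (heM : e ∉ M) (he2 : e * e = 1) : ∃ g : G, g * e * g⁻¹ ∈ M := by
  haveI : Fact (Nat.Prime 2) := ⟨Nat.prime_two⟩
  have ho : orderOf e = 2 := orderOf_eq_prime (by rw [pow_two, he2]) fun h => heM (h ▸ one_mem _)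
  rcases Cfsg.Agent.S0111.result S M hM hMi e ho he heM with ⟨N, hN, hNi, -⟩ | h
  · exact (Cfsg.Lib.CyclicNorm.no_index_two hna hN hNi).elim
  · exact h

theorem split_two_false [IsSimpleGroup G] (hna : ¬ IsMulCommutative G) (S : Sylow 2 G) {A : Subgroup G}
    (hn : NormTwo G) (P : Split (S : Subgroup G) A) {p q : G} (hp : p ∈ S) (hpq : Quad p) (hq : q ∈ S)
    (hqq : Quad q) (hne : p * p ≠ q * q) : False := by
  classical
  haveI : Fact (Nat.Prime 2) := ⟨Nat.prime_two⟩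
  obtain ⟨e, he, heA⟩ := P.ne
  obtain ⟨g, hg⟩ := P.conj_into hna P.le P.relIndex he heA (P.out e he heA)
  have hc2 : g * e * g⁻¹ * (g * e * g⁻¹) = 1 := by
    rw [show g * e * g⁻¹ * (g * e * g⁻¹) = g * (e * e) * g⁻¹ by group, P.out e he heA]; group
  obtain ⟨h, w, hhe, hw, hwA, hF, hF'⟩ := P.exists_move he heA (g := g) fun x hx => P.invol_central hg hc2 hx
  set F := cenS S e with hFdef
  have hmem : ∀ d, d ∈ S → Quad d → d ∈ A ∧ d * d ∈ P.invol := fun d hd hdq =>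
    ⟨P.quad_mem hd hdq, ⟨mul_mem (P.quad_mem hd hdq) (P.quad_mem hd hdq), hdq.2⟩⟩
  have hsub : ∀ w', w' ∈ S → w' ∉ A → ∀ a ∈ P.invol, a ∈ cenS S w' := fun w' h1 h2 a ha =>
    (P.cenS_cases h1 h2).2 (Or.inl ha)
  have hcomm := quad_comm hn hpq hqq (sq_central hn S.2 hq hqq hp) (sq_central hn S.2 hp hpq hq) hne
  obtain ⟨hpqq, hpqsq⟩ := quad_mul hpq hqq hcomm hne
  -- the second center
  obtain ⟨d₂, hd₂, hd₂q, hv₂A⟩ : ∃ d ∈ S, Quad d ∧ h⁻¹ * (d * d) * h ∈ A := by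
    by_contra! hcon
    have h1 := hcon p hp hpq
    have h2 := hcon q hq hqq
    refine hcon (p * q) (mul_mem hp hq) hpqq ?_
    rw [hpqsq, show h⁻¹ * (p * p * (q * q)) * h = h⁻¹ * (p * p) * h * (h⁻¹ * (q * q) * h) by group]
    exact P.mul _ (mem_cenS.1 (hF' _ (hsub w hw hwA _ (hmem p hp hpq).2))).1 _
      (mem_cenS.1 (hF' _ (hsub w hw hwA _ (hmem q hq hqq).2))).1 h1 h2
  set v₂ := h⁻¹ * (d₂ * d₂) * h with hv₂
  have hv₂2 : v₂ * v₂ = 1 := by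
    rw [hv₂, show h⁻¹ * (d₂ * d₂) * h * (h⁻¹ * (d₂ * d₂) * h) = h⁻¹ * (d₂ * d₂ * (d₂ * d₂)) * h by group, hd₂q.2]
    group
  have hv₂1 : v₂ ≠ 1 := fun e' => hd₂q.1 (by
    rw [show d₂ * d₂ = h * v₂ * h⁻¹ by rw [hv₂]; group, e']; group)
  obtain ⟨d₁, hd₁, hd₁q, hd₁ne⟩ : ∃ d ∈ S, Quad d ∧ d * d ≠ v₂ := by
    by_cases h1 : p * p = v₂
    · exact ⟨q, hq, hqq, fun h2 => hne (h1.trans h2.symm)⟩
    · exact ⟨p, hp, hpq, h1⟩
  obtain ⟨hd₁A, hv₁E⟩ := hmem d₁ hd₁ hd₁q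
  set v₁ := d₁ * d₁ with hv₁
  have hv₂E : v₂ ∈ P.invol := ⟨hv₂A, hv₂2⟩
  set D := h⁻¹ * d₂ * h with hD
  set m := d₁ * D with hm
  have hDact : ∀ f ∈ F, (h * f * h⁻¹ ∈ A → D * f * D⁻¹ = f) ∧ (h * f * h⁻¹ ∉ A → D * f * D⁻¹ = v₂ * f) := by
    intro f hf
    obtain ⟨a1, a2⟩ := P.quad_act d₂ (hmem d₂ hd₂ hd₂q).1 hw hwA (hF f hf)
    refine ⟨fun hh => ?_, fun hh => ?_⟩
    · rw [show D * f * D⁻¹ = h⁻¹ * (d₂ * (h * f * h⁻¹) * d₂⁻¹) * h by rw [hD]; group, a1 hh]; group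
    · rw [show D * f * D⁻¹ = h⁻¹ * (d₂ * (h * f * h⁻¹) * d₂⁻¹) * h by rw [hD]; group, a2 hh, hv₂]; group
  have hd₁v₂ : d₁ * v₂ * d₁⁻¹ = v₂ := by rw [(P.comm hd₁A hv₂A).eq, mul_inv_cancel_right]
  -- the action of the product
  have hval : ∀ f ∈ F, (m * f * m⁻¹ = f ∧ f ∈ A ∧ h * f * h⁻¹ ∈ A) ∨ m * f * m⁻¹ = v₁ * f ∧ f ∉ A ∨
      m * f * m⁻¹ = v₂ * f ∧ h * f * h⁻¹ ∉ A ∨ m * f * m⁻¹ = v₂ * v₁ * f := by
    intro f hf
    obtain ⟨a1, a2⟩ := P.quad_act d₁ hd₁A he heA hf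
    obtain ⟨b1, b2⟩ := hDact f hf
    have em : m * f * m⁻¹ = d₁ * (D * f * D⁻¹) * d₁⁻¹ := by rw [hm]; group
    by_cases hB : h * f * h⁻¹ ∈ A
    · rw [em, b1 hB]
      by_cases hfA : f ∈ A
      · exact Or.inl ⟨a1 hfA, hfA, hB⟩
      · exact Or.inr (Or.inl ⟨a2 hfA, hfA⟩)
    · rw [em, b2 hB, show d₁ * (v₂ * f) * d₁⁻¹ = d₁ * v₂ * d₁⁻¹ * (d₁ * f * d₁⁻¹) by group, hd₁v₂]
      by_cases hfA : f ∈ A
      · exact Or.inr (Or.inr (Or.inl ⟨by rw [a1 hfA], hB⟩))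
      · exact Or.inr (Or.inr (Or.inr (by rw [a2 hfA, hv₁, mul_assoc v₂])))
  have hE : ∀ a ∈ P.invol, a ∈ F := hsub e he heA
  have hfix : ∀ f ∈ F, Commute m f → f ∈ A ∧ h * f * h⁻¹ ∈ A := by
    intro f hf hmf
    have e' : m * f * m⁻¹ = f := by rw [hmf.eq, mul_inv_cancel_right]
    rcases hval f hf with r | r | r | r
    · exact r.2
    · exact absurd (mul_eq_right.1 (r.1.symm.trans e')) hd₁q.1
    · exact absurd (mul_eq_right.1 (r.1.symm.trans e')) hv₂1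
    · refine absurd ?_ hd₁ne
      exact (eq_inv_of_mul_eq_one_left (mul_eq_right.1 (r.symm.trans e'))).trans (inv_eq_of_mul_eq_one_right hd₁q.2) |>.symm
  have hmN : ∀ f ∈ F, m * f * m⁻¹ ∈ F := by
    intro f hf
    rcases hval f hf with r | r | r | r
    · rw [r.1]; exact hf
    · rw [r.1]; exact mul_mem (hE _ hv₁E) hf
    · rw [r.1]; exact mul_mem (hE _ hv₂E) hf
    · rw [r]; exact mul_mem (hE _ (mul_mem hv₂E hv₁E)) hf
  have hmv₂ : m * v₂ * m⁻¹ = v₂ := by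
    have : D * v₂ * D⁻¹ = v₂ := by rw [hD, hv₂]; group
    rw [hm, show d₁ * D * v₂ * (d₁ * D)⁻¹ = d₁ * (D * v₂ * D⁻¹) * d₁⁻¹ by group, this, hd₁v₂]
  have hmv₁ : m * v₁ * m⁻¹ * v₁ = 1 ∨ m * v₁ * m⁻¹ * v₁ = v₂ := by
    obtain ⟨a1, -⟩ := P.quad_act d₁ hd₁A he heA (hE _ hv₁E)
    obtain ⟨b1, b2⟩ := hDact _ (hE _ hv₁E)
    have em : m * v₁ * m⁻¹ = d₁ * (D * v₁ * D⁻¹) * d₁⁻¹ := by rw [hm]; group
    by_cases hB : h * v₁ * h⁻¹ ∈ A
    · left; rw [em, b1 hB, a1 hv₁E.1]; exact hd₁q.2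
    · right
      rw [em, b2 hB, show d₁ * (v₂ * v₁) * d₁⁻¹ = d₁ * v₂ * d₁⁻¹ * (d₁ * v₁ * d₁⁻¹) by group, hd₁v₂, a1 hv₁E.1,
        mul_assoc, show v₁ * v₁ = 1 from hd₁q.2, mul_one]
  have hv12 : Commute v₂ v₁ := P.comm hv₂A hv₁E.1
  have hm2 : ∀ f ∈ F, m * m * f * (m * m)⁻¹ = f ∨ m * m * f * (m * m)⁻¹ = v₂ * f := by
    intro f hf
    have e2 : ∀ s, m * f * m⁻¹ = s * f → m * m * f * (m * m)⁻¹ = m * s * m⁻¹ * s * f := fun s hs => by
      rw [show m * m * f * (m * m)⁻¹ = m * (m * f * m⁻¹) * m⁻¹ by group, hs,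
        show m * (s * f) * m⁻¹ = m * s * m⁻¹ * (m * f * m⁻¹) by group, hs, ← mul_assoc]
    rcases hval f hf with r | r | r | r
    · left
      rw [show m * m * f * (m * m)⁻¹ = m * (m * f * m⁻¹) * m⁻¹ by group, r.1, r.1]
    · rw [e2 v₁ r.1]
      rcases hmv₁ with k | k <;> rw [k]
      · exact Or.inl (one_mul f)
      · exact Or.inr rfl
    · left; rw [e2 v₂ r.1, hmv₂, hv₂2, one_mul]
    · rw [e2 _ r, show m * (v₂ * v₁) * m⁻¹ = m * v₂ * m⁻¹ * (m * v₁ * m⁻¹) by group, hmv₂]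
      have : v₂ * (m * v₁ * m⁻¹) * (v₂ * v₁) = m * v₁ * m⁻¹ * v₁ := by
        have hc : Commute v₂ (m * v₁ * m⁻¹) := by
          have h1 := hv12.map (MulAut.conj m).toMonoidHom
          simp only [MulEquiv.coe_toMonoidHom, MulAut.conj_apply, hmv₂] at h1
          exact h1
        rw [hc.eq, mul_assoc, ← mul_assoc v₂, hv₂2, one_mul]
      rw [this]
      rcases hmv₁ with k | k <;> rw [k]
      · exact Or.inl (one_mul f)
      · exact Or.inr rfl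
  have hm4 : ∀ f ∈ F, Commute (m * m * (m * m)) f := by
    intro f hf
    refine mul_inv_eq_iff_eq_mul.1 ?_
    rw [show m * m * (m * m) * f * (m * m * (m * m))⁻¹ = m * m * (m * m * f * (m * m)⁻¹) * (m * m)⁻¹ by group]
    have hh : m * m * v₂ * (m * m)⁻¹ = v₂ := by
      rw [show m * m * v₂ * (m * m)⁻¹ = m * (m * v₂ * m⁻¹) * m⁻¹ by group, hmv₂, hmv₂]
    rcases hm2 f hf with r | r
    · rw [r, r]
    · rw [r, show m * m * (v₂ * f) * (m * m)⁻¹ = m * m * v₂ * (m * m)⁻¹ * (m * m * f * (m * m)⁻¹) by group, hh, r,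
        ← mul_assoc, hv₂2, one_mul]
  -- its 2-part
  obtain ⟨a, o, hodd, ho⟩ := Nat.exists_eq_two_pow_mul_odd (orderOf_pos m).ne'
  set r := m ^ o with hr
  have hr2 : IsPGroup 2 ↥(zpowers r) := by
    refine IsPGroup.of_card_dvd_pow (n := a) ?_
    rw [Nat.card_zpowers]
    refine orderOf_dvd_of_pow_eq_one ?_
    rw [hr, ← pow_mul, mul_comm, ← ho, pow_orderOf_eq_one]
  have hrfix : ∀ f ∈ F, Commute r f → Commute m f := by
    intro f hf hc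
    obtain ⟨k, hk⟩ := hodd
    have h1 : Commute (m ^ (o * o)) f := by rw [pow_mul]; exact hc.pow_left o
    have h4 : Commute ((m * m * (m * m)) ^ (k * k + k)) f := (hm4 f hf).pow_left _
    have e' : o * o = 4 * (k * k + k) + 1 := by rw [hk]; ring
    rw [e', pow_succ, pow_mul, show m ^ 4 = m * m * (m * m) by rw [show 4 = 2 + 2 from rfl, pow_add, pow_two]] at h1
    have h5 := h4.inv_left.mul_left h1
    rwa [inv_mul_cancel_left] at h5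
  have hrN : zpowers r ≤ normalizer (F : Set G) := zpowers_le.2 (pow_mem (mem_normalizer_fintype hmN) o)
  obtain ⟨k, hk⟩ := exists_conj_le' S
    (hr2.to_sup_of_normal_right' (S.2.to_le (inf_le_left : F ≤ S)) hrN)
  set Q := F.map (MulAut.conj k).toMonoidHom with hQ
  obtain ⟨w', hw', hw'A, hQw⟩ := P.exists_cenS (Q := Q)
    (by rintro _ ⟨x, hx, rfl⟩; exact hk x (mem_sup_right hx))
    (by rintro _ ⟨x, hx, rfl⟩; rw [← map_mul, P.cenS_sq he heA hx, map_one])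
    (by rw [hQ, card_map_of_injective (MulAut.conj k).injective, P.card_cenS he heA])
  set I₁ := P.invol.map (MulAut.conj k⁻¹).toMonoidHom with hI₁
  have hle : ∀ a ∈ P.invol, k⁻¹ * a * k ∈ A ∧ h * (k⁻¹ * a * k) * h⁻¹ ∈ A ∧ k⁻¹ * a * k ∈ F := by
    intro a ha
    obtain ⟨f, hf, hfa⟩ : a ∈ Q := hQw ▸ hsub w' hw' hw'A a ha
    have hfk : k⁻¹ * a * k = f := by rw [← hfa]; show k⁻¹ * (k * f * k⁻¹) * k = f; group
    rw [hfk]
    have hrc : Commute r f := by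
      have h1 := (P.invol_cen ha (hk r (mem_sup_left (mem_zpowers r)))).map (MulAut.conj k⁻¹).toMonoidHom
      simp only [MulEquiv.coe_toMonoidHom, MulAut.conj_apply, inv_inv, hfk,
        show k⁻¹ * (k * r * k⁻¹) * k = r by group] at h1
      exact h1
    obtain ⟨q1, q2⟩ := hfix f hf (hrfix f hf hrc)
    exact ⟨q1, q2, hf⟩
  have hI : I₁ ≤ P.invol := by
    rintro _ ⟨a, ha, rfl⟩
    refine ⟨?_, by rw [← map_mul, ha.2, map_one]⟩
    show k⁻¹ * a * k⁻¹⁻¹ ∈ A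
    rw [inv_inv]; exact (hle a ha).1
  have hI' : I₁ ≤ P.invol.map (MulAut.conj h⁻¹).toMonoidHom := by
    rintro _ ⟨a, ha, rfl⟩
    obtain ⟨q1, q2, q3⟩ := hle a ha
    refine ⟨h * (k⁻¹ * a * k) * h⁻¹, ⟨q2, ?_⟩, ?_⟩
    · rw [show h * (k⁻¹ * a * k) * h⁻¹ * (h * (k⁻¹ * a * k) * h⁻¹) = h * k⁻¹ * (a * a) * k * h⁻¹ by group, ha.2]
      group
    · show h⁻¹ * (h * (k⁻¹ * a * k) * h⁻¹) * h⁻¹⁻¹ = k⁻¹ * a * k⁻¹⁻¹
      group
  have hcard : ∀ y : G, Nat.card ↥(P.invol.map (MulAut.conj y).toMonoidHom) = Nat.card ↥P.invol := fun y =>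
    card_map_of_injective (MulAut.conj y).injective
  have e1 := Subgroup.eq_of_le_of_card_ge hI (by rw [hI₁, hcard])
  have e2 := Subgroup.eq_of_le_of_card_ge hI' (by rw [hI₁, hcard, hcard])
  refine heA (show e ∈ P.invol from ?_).1
  rw [← e1, e2]
  refine ⟨g * e * g⁻¹, ⟨hg, hc2⟩, ?_⟩
  show h⁻¹ * (g * e * g⁻¹) * h⁻¹⁻¹ = e
  rw [← hhe]; group

end Cfsg.Lib.TICyclic
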